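import Cfsg.Agent.Lib.OddOrder.Partner.Main

/-!
# BG 14.7: the covering of `G - 1` by the sets `Ã(N)` and the conjugates of `Ẑ`
-/

set_option autoImplicit false
set_option linter.style.haveILetI false
set_option linter.unusedSectionVars false

open scoped Pointwise

namespace Cfsg.Agent.Lib.OddOrder.Partner.Cover

open Cfsg.Agent.Lib.OddOrder Cfsg.Agent.Lib.OddOrder.MinSimple Cfsg.Agent.Lib.OddOrder.Partner

universe u

variable {G : Type u} [Group G] [Finite G] {M N K Z : Subgroup G}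

/-- Every element is the product of its `π`-part and its `π'`-part. -/
theorem exists_parts (π : Set ℕ) (g : G) :
    ∃ x ∈ Subgroup.zpowers g, ∃ x' ∈ Subgroup.zpowers g, g = x * x' ∧ Commute x' x ∧
      (∀ p : ℕ, p.Prime → p ∣ orderOf x → p ∈ π) ∧
      ∀ p : ℕ, p.Prime → p ∣ orderOf x' → p ∉ π := by
  set C := Subgroup.zpowers g with hC
  haveI : Group.IsSolvable C := Group.isSolvable_of_comm fun a b => mul_comm' a b
  obtain ⟨H, hH⟩ := Hall.exists_isPiHallOf π C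
  obtain ⟨H', hH'⟩ := Hall.exists_isPiHallOf {q | q ∉ π} C
  have hle : H ⊔ H' ≤ C := sup_le hH.1 hH'.1
  have h1 : (H ⊔ H').relIndex C = 1 := by
    by_contra hne
    obtain ⟨p, hp, hd⟩ := Nat.exists_prime_and_dvd hne
    by_cases hπ : p ∈ π
    · exact hH.2.2 p hp hπ (hd.trans (Subgroup.relIndex_dvd_of_le_left C le_sup_left))
    · exact hH'.2.2 p hp hπ (hd.trans (Subgroup.relIndex_dvd_of_le_left C le_sup_right))
  have hn : H' ≤ Subgroup.normalizer (H : Set G) :=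
    (le_trans ?_ (Subgroup.centralizer_le_normalizer _))
  · have hg : g ∈ ((H ⊔ H' : Subgroup G) : Set G) :=
      Subgroup.relIndex_eq_one.1 h1 (Subgroup.mem_zpowers g)
    rw [Subgroup.coe_mul_of_right_le_normalizer_left H H' hn] at hg
    obtain ⟨x, hx, x', hx', e⟩ := Set.mem_mul.1 hg
    exact ⟨x, hH.1 hx, x', hH'.1 hx', e.symm,
      congrArg Subtype.val (mul_comm' (⟨x', hH'.1 hx'⟩ : C) ⟨x, hH.1 hx⟩),
      fun p hp hd => hH.2.1 p hp (dvd_card_of_mem hx hd),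
      fun p hp hd => hH'.2.1 p hp (dvd_card_of_mem hx' hd)⟩
  · intro a ha
    exact Subgroup.mem_centralizer_iff.2 fun b hb =>
      congrArg Subtype.val (mul_comm' (⟨b, hH.1 hb⟩ : C) ⟨a, hH'.1 ha⟩)

/-- A `π`-subgroup of a solvable group is conjugate into every subgroup of index prime to `π`. -/
theorem exists_conj_into {π : Set ℕ} {C A Y : Subgroup G} (hs : Group.IsSolvable C) (hAC : A ≤ C)
    (hA : ∀ p : ℕ, p.Prime → p ∈ π → ¬ p ∣ A.relIndex C) (hYC : Y ≤ C)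
    (hY : ∀ p : ℕ, p.Prime → p ∣ Nat.card Y → p ∈ π) :
    ∃ d ∈ C, Y.map (MulAut.conj d).toMonoidHom ≤ A := by
  haveI := hs
  haveI := Coprime.isSolvable_of_le hAC
  obtain ⟨H, hH⟩ := Hall.exists_isPiHallOf π A
  have hHC : Cfsg.IsPiHallOf π H C := by
    refine ⟨hH.1.trans hAC, hH.2.1, fun p hp hπ hd => ?_⟩
    rw [← Subgroup.relIndex_mul_relIndex _ _ _ hH.1 hAC] at hd
    rcases hp.dvd_mul.1 hd with h' | h'
    · exact hH.2.2 p hp hπ h'
    · exact hA p hp hπ h'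
  obtain ⟨H', hH', hYH'⟩ := OddFitting.CentralizerHall.exists_hall_ge (M := C) hYC hY
  obtain ⟨d, hd, e⟩ := Hall.Coprime.exists_conj_of_isPiHallOf hs hH' hHC
  exact ⟨d, hd, ((Subgroup.map_mono hYH').trans (le_of_eq e)).trans hH.1⟩

/-- `g` lies in some `Ã(N)` or is conjugate into some `Ẑ`. -/
def Covered (g : G) : Prop :=
  (∃ N : Subgroup G, IsCoatom N ∧ g ∈ Cfsg.tildeOf N ((Cfsg.sigmaCore N : Set G) \ {1})) ∨
    ∃ L K : Subgroup G, IsCoatom L ∧ Cfsg.IsPiHallOf (Cfsg.kappa L) K L ∧ K ≠ ⊥ ∧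
      g ∈ Dickson.conjClosure (hat L K)

theorem covered_of_conj {g d : G} (hg : Covered (d * g * d⁻¹)) : Covered g := by
  rcases hg with ⟨N, hN, a, ha, r, hr, y, e⟩ | ⟨L, K, hL, hK, hK1, c, z, hz, e⟩
  · refine Or.inl ⟨N, hN, a, ha, r, hr, d⁻¹ * y, ?_⟩
    calc g = d⁻¹ * (d * g * d⁻¹) * d := by group
      _ = _ := by rw [e]; group
  · refine Or.inr ⟨L, K, hL, hK, hK1, d⁻¹ * c, z, hz, ?_⟩
    calc d⁻¹ * c * z * (d⁻¹ * c)⁻¹ = d⁻¹ * (c * z * c⁻¹) * d := by group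
      _ = g := by rw [e]; group

/-- A `κ(M)`-element times a commuting element of `M_σ`, both non-trivial, is conjugate into `Ẑ`. -/
theorem mul_mem_conjClosure (h : Hyp G) (hM : IsCoatom M)
    (hK : Cfsg.IsPiHallOf (Cfsg.kappa M) K M) {x y : G} (hx : x ∈ M) (hx1 : x ≠ 1)
    (hxκ : ∀ p : ℕ, p.Prime → p ∣ orderOf x → p ∈ Cfsg.kappa M) (hy : y ∈ Cfsg.sigmaCore M)
    (hy1 : y ≠ 1) (hc : Commute y x) : x * y ∈ Dickson.conjClosure (hat M K) := by
  obtain ⟨m, hm, hmK⟩ := h.exists_conj_mem hM hK hx hxκ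
  have hm1 : m * x * m⁻¹ ≠ 1 := fun e => hx1 (conj_eq_one_iff.1 e)
  have hy' : m * y * m⁻¹ ∈ star M K := h.fixed hM hK hmK hm1
    ((Subgroup.mem_normalizer_iff.1 (OddTau.Basic.le_normalizer_sigmaCore M hm) y).1 hy)
    (hc.map (MulAut.conj m).toMonoidHom)
  exact ⟨m⁻¹, m * x * m⁻¹ * (m * y * m⁻¹),
    mul_mem_hat hK hmK hm1 hy' (fun e => hy1 (conj_eq_one_iff.1 e)), by group⟩

theorem covered_tilde (hM : IsCoatom M) {x r : G} (hx : x ∈ Cfsg.sigmaCore M) (hx1 : x ≠ 1)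
    (hr : r ∈ Cfsg.supportR M x) : Covered (x * r) :=
  Or.inl ⟨M, hM, x, ⟨hx, hx1⟩, r, hr, 1, by group⟩

/-- The covering for elements of `M`. -/
theorem covered_mem (h : Hyp G) (hM : IsCoatom M) {x x' : G} (hx : x ∈ Cfsg.sigmaCore M)
    (hx1 : x ≠ 1) (hx'M : x' ∈ M) (hc : Commute x' x)
    (hσ : ∀ p : ℕ, p.Prime → p ∣ orderOf x' → p ∉ Cfsg.sigma M) : Covered (x * x') := by
  by_cases hx'1 : x' = 1
  · rw [hx'1]
    exact covered_tilde hM hx hx1 (one_mem _)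
  obtain ⟨p, hp, hd⟩ := Nat.exists_prime_and_dvd fun e => hx'1 (orderOf_eq_one_iff.1 e)
  rcases h.dichotomy hM hx hx1 hx'M hc hx'1 hσ with ⟨hκ, -⟩ | ⟨-, ⟨L, hL, hLσ⟩, hC, huniq⟩
  · obtain ⟨K, hK⟩ := h.exists_hall_kappa hM
    refine Or.inr ⟨M, K, hM, hK, (ne_bot_iff_kappa hK).2 ⟨p, hκ p hp hd⟩, ?_⟩
    rw [← hc.eq]
    exact mul_mem_conjClosure h hM hK hx'M hx'1 hκ hx hx1 hc.symm
  · obtain ⟨c, hcle⟩ := SigmaSubgroup.exists_conj_le_sigmaCore (TauTwoFacts.tauTwo h.min) h.min hL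
      (fun e => hx'1 (Subgroup.zpowers_eq_bot.1 e) : Subgroup.zpowers x' ≠ ⊥)
      (fun q hq hqd => hLσ q hq (by rwa [Nat.card_zpowers] at hqd))
    have hb : c * x' * c⁻¹ ∈ Cfsg.sigmaCore L := hcle ⟨x', Subgroup.mem_zpowers x', rfl⟩
    have hb1 : c * x' * c⁻¹ ≠ 1 := fun e => hx'1 (conj_eq_one_iff.1 e)
    set M₁ := M.map (MulAut.conj c).toMonoidHom with hM₁
    have hle : Subgroup.centralizer ({c * x' * c⁻¹} : Set G) ≤ M₁ := centralizer_map_le hC
    have hnle : ¬ Subgroup.centralizer ({c * x' * c⁻¹} : Set G) ≤ L := by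
      intro hle'
      have hL' : L.map (MulAut.conj c⁻¹).toMonoidHom = M := by
        refine huniq _ (PF8.Conj.im_isCoatom (MulAut.conj c⁻¹) hL) ?_
        have h1 := centralizer_map_le (c := c⁻¹) hle'
        rwa [show c⁻¹ * (c * x' * c⁻¹) * c⁻¹⁻¹ = x' by group] at h1
      have h2 := hLσ p hp hd
      rw [← sigma_conj_eq L c⁻¹, hL'] at h2
      exact hσ p hp hd h2
    have hS := h.spec_of hL hb hb1 hnle (PF8.Conj.im_isCoatom (MulAut.conj c) hM) hle
    refine covered_of_conj (d := c) ?_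
    rw [show c * (x * x') * c⁻¹ = c * x' * c⁻¹ * (c * x * c⁻¹) by rw [← hc.eq]; group]
    refine covered_tilde hL hb hb1 ?_
    rw [hS.supportR_eq hnle]
    exact ⟨conj_sigmaCore hx,
      Subgroup.mem_centralizer_singleton_iff.2 (hc.symm.map (MulAut.conj c).toMonoidHom).eq⟩

/-- The covering. -/
theorem covered (h : Hyp G) {g : G} (hg : g ≠ 1) : Covered g := by
  obtain ⟨p, hp, b, hb, hbo⟩ := exists_prime_pow hg
  obtain ⟨M, hM, hpM⟩ := (Cfsg.Agent.S1378.result h.min).1 p hp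
    (hbo ▸ orderOf_dvd_natCard b)
  obtain ⟨x, hxg, x', hx'g, e, hc, hxσ, hx'σ⟩ := exists_parts (Cfsg.sigma M) g
  subst e
  have hx1 : x ≠ 1 := by
    rintro rfl
    rw [one_mul] at hb
    exact hx'σ p hp ((hbo ▸ dvd_of_mem_zpowers hb : p ∣ orderOf x')) hpM
  obtain ⟨c, hcle⟩ := SigmaSubgroup.exists_conj_le_sigmaCore (TauTwoFacts.tauTwo h.min) h.min hM
    (fun e => hx1 (Subgroup.zpowers_eq_bot.1 e) : Subgroup.zpowers x ≠ ⊥)
    (fun q hq hqd => hxσ q hq (by rwa [Nat.card_zpowers] at hqd))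
  refine covered_of_conj (d := c) ?_
  rw [show c * (x * x') * c⁻¹ = c * x * c⁻¹ * (c * x' * c⁻¹) by group]
  set a := c * x * c⁻¹ with hadef
  set r := c * x' * c⁻¹ with hrdef
  have ha : a ∈ Cfsg.sigmaCore M := hcle ⟨x, Subgroup.mem_zpowers x, rfl⟩
  have ha1 : a ≠ 1 := fun e => hx1 (conj_eq_one_iff.1 e)
  have hc' : Commute r a := hc.map (MulAut.conj c).toMonoidHom
  have hrσ : ∀ q : ℕ, q.Prime → q ∣ orderOf r → q ∉ Cfsg.sigma M := fun q hq hqd => by
    rw [hrdef, show c * x' * c⁻¹ = MulAut.conj c x' from rfl, MulEquiv.orderOf_eq] at hqd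
    exact hx'σ q hq hqd
  clear_value a r
  by_cases hrM : r ∈ M
  · exact covered_mem h hM ha ha1 hrM hc' hrσ
  have hrC : r ∈ Subgroup.centralizer ({a} : Set G) := Subgroup.mem_centralizer_singleton_iff.2 hc'.eq
  have hnle : ¬ Subgroup.centralizer ({a} : Set G) ≤ M := fun hle => hrM (hle hrC)
  obtain ⟨N, hS⟩ := h.exists_spec hM ha ha1 hnle
  by_cases hall : ∀ q : ℕ, q.Prime → q ∣ orderOf r → q ∈ Cfsg.sigma N
  · refine covered_tilde hM ha ha1 ?_
    rw [hS.supportR_eq hnle]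
    exact ⟨h.mem_sigmaCore hS.max (hS.le hrC) hall, hrC⟩
  simp only [not_forall] at hall
  obtain ⟨q, hq, hqd, hqN⟩ := hall
  obtain ⟨hso, hs⟩ := BG14.ElementDichotomy.pow_prime_mem hqd
  set s := r ^ (orderOf r / q) with hsdef
  obtain ⟨d, hd, hdle⟩ := exists_conj_into (π := {t | t = q})
    (A := M ⊓ Subgroup.centralizer ({a} : Set G)) (Y := Subgroup.zpowers s)
    (haveI := h.solvable hS.max; Coprime.isSolvable_of_le hS.le) inf_le_right
    (fun t ht ht' hdvd => by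
      obtain rfl : t = q := ht'
      rw [Basic.isComplIn_relIndex hS.complC] at hdvd
      exact hqN (OddTau.Basic.mem_sigma_of_dvd hq (hdvd.trans (Subgroup.card_dvd_of_le inf_le_left))))
    (Subgroup.zpowers_le.2 (Subgroup.zpowers_le.2 hrC hs))
    (fun t ht htd => by
      rw [Nat.card_zpowers, hso] at htd
      exact (Nat.prime_dvd_prime_iff_eq ht hq).1 htd)
  have hsM : d * s * d⁻¹ ∈ M := (hdle ⟨s, Subgroup.mem_zpowers s, rfl⟩).1
  have hsC : Commute (d * s * d⁻¹) a :=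
    Subgroup.mem_centralizer_singleton_iff.1 (hdle ⟨s, Subgroup.mem_zpowers s, rfl⟩).2
  have hso' : orderOf (d * s * d⁻¹) = q := (MulEquiv.orderOf_eq (MulAut.conj d) s).trans hso
  have hsσ : ∀ t : ℕ, t.Prime → t ∣ orderOf (d * s * d⁻¹) → t ∉ Cfsg.sigma M := fun t ht htd => by
    rw [hso'] at htd
    exact (Nat.prime_dvd_prime_iff_eq ht hq).1 htd ▸ hrσ q hq hqd
  rcases h.dichotomy hM ha ha1 hsM hsC (ne_one_of_prime hq hso') hsσ with
    ⟨-, hle⟩ | ⟨-, -, hC, -⟩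
  · exact absurd hle hnle
  -- `d r d⁻¹` centralizes `d s d⁻¹`, so lies in `M`
  have hda : d * a * d⁻¹ = a := by
    rw [Subgroup.mem_centralizer_singleton_iff.1 hd, mul_inv_cancel_right]
  refine covered_of_conj (d := d) ?_
  rw [show d * (a * r) * d⁻¹ = d * a * d⁻¹ * (d * r * d⁻¹) by group, hda]
  refine covered_mem h hM ha ha1 (hC (Subgroup.mem_centralizer_singleton_iff.2
    (((Commute.refl r).pow_right _).map (MulAut.conj d).toMonoidHom).eq)) ?_ fun t ht htd => ?_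
  · have h1 := hc'.map (MulAut.conj d).toMonoidHom
    rwa [show (MulAut.conj d).toMonoidHom a = a from hda] at h1
  · rw [show d * r * d⁻¹ = MulAut.conj d r from rfl, MulEquiv.orderOf_eq] at htd
    exact hrσ t ht htd

/-! ### Moving to a given `Ẑ` -/

theorem hat_symm (hP : IsPartner M K N) : hat N (star M K) = hat M K := by
  show (↑(star M K ⊔ star N (star M K)) : Set G) \
    ((star M K : Set G) ∪ ↑(star N (star M K))) = _
  rw [← hP.eq, sup_comm, Set.union_comm]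

/-- An element of `Ẑ_L` is conjugate into `Ẑ_M` when `L` is conjugate to `M`. -/
theorem mem_conjClosure_of_conj (h : Hyp G) (hM : IsCoatom M)
    (hK : Cfsg.IsPiHallOf (Cfsg.kappa M) K M) {L K' : Subgroup G} {c : G}
    (hL : L = M.map (MulAut.conj c).toMonoidHom) (hK' : Cfsg.IsPiHallOf (Cfsg.kappa L) K' L)
    {z : G} (hz : z ∈ hat L K') : z ∈ Dickson.conjClosure (hat M K) := by
  obtain ⟨x, hx, y, hy, hx1, hy1, rfl, -, -⟩ := exists_of_mem_hat hK' hz
  subst hL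
  have hxM : c⁻¹ * x * c ∈ M := Types.General.mem_map_conj.1 (hK'.1 hx)
  have hyσ : c⁻¹ * y * c ∈ Cfsg.sigmaCore M := by
    have h1 := hy.1
    rw [sigmaCore_conj_eq] at h1
    exact Types.General.mem_map_conj.1 h1
  have hxo : orderOf (c⁻¹ * x * c) = orderOf x := by
    rw [show c⁻¹ * x * c = MulAut.conj c⁻¹ x by simp, MulEquiv.orderOf_eq]
  obtain ⟨m, w, hw, e⟩ := mul_mem_conjClosure h hM hK hxM
    (fun e => hx1 (by rw [show x = c * (c⁻¹ * x * c) * c⁻¹ by group, e]; group))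
    (fun q hq hd => by
      rw [hxo] at hd
      exact kappa_conj_eq M c ▸ hK'.2.1 q hq (dvd_card_of_mem hx hd))
    hyσ (fun e => hy1 (by rw [show y = c * (c⁻¹ * y * c) * c⁻¹ by group, e]; group))
    (by
      have h1 := (commute_star hx hy).symm.map (MulAut.conj c⁻¹).toMonoidHom
      simpa using h1)
  exact ⟨c * m, w, hw, by
    calc c * m * w * (c * m)⁻¹ = c * (m * w * m⁻¹) * c⁻¹ := by group
      _ = x * y := by rw [e]; group⟩

/-- BG 14.7: every element is in some `Ã(N)` or conjugate into the given `Ẑ`. -/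
theorem tilde_or_hat (h : Hyp G) (P : Pair Z M K) {g : G} (hg : g ≠ 1) :
    (∃ N : Subgroup G, IsCoatom N ∧ g ∈ Cfsg.tildeOf N ((Cfsg.sigmaCore N : Set G) \ {1})) ∨
      g ∈ Dickson.conjClosure (hat M K) := by
  rcases covered h hg with hg' | ⟨L, K', hL, hK', hK'1, c, z, hz, rfl⟩
  · exact Or.inl hg'
  right
  obtain ⟨N, hP, -, P₂, -, -⟩ := exists_partner h P
  suffices z ∈ Dickson.conjClosure (hat M K) by
    obtain ⟨d, w, hw, rfl⟩ := this
    exact ⟨c * d, w, hw, by group⟩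
  obtain ⟨d, e | e⟩ := hP.conj_of_kappa h P hL ((ne_bot_iff_kappa hK').1 hK'1)
  · exact mem_conjClosure_of_conj h P.max P.hall e hK' hz
  · rw [← hat_symm hP]
    exact mem_conjClosure_of_conj h hP.max hP.hall e hK' hz

end Cfsg.Agent.Lib.OddOrder.Partner.Cover
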