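import Cfsg.Agent.Lib.OddOrder.Partner.Hyps
import Cfsg.Agent.Lib.OddOrder.BG14.SigmaBeta
import Cfsg.Agent.S1377
import Cfsg.Agent.S1430
import Cfsg.Agent.S1431
import Cfsg.Agent.S1433

/-!
# The hypotheses of BG 14.7 hold
-/

set_option autoImplicit false

namespace Cfsg.Agent.Lib.OddOrder.Partner

universe u

theorem hyp {G : Type u} [Group G] [Finite G] (hG : Cfsg.IsMinSimpleOddOrder G) : Hyp G where
  min := hG
  r1430 M hM K hK hK1 := Cfsg.Agent.S1430.result hG M hM K hK hK1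
  r1431 M hM K hK hK1 := Cfsg.Agent.S1431.result hG M hM K hK hK1
  r1433 M N hM hN x y hx hy hx1 hy1 hxy :=
    Cfsg.Agent.S1433.result hG M N hM hN x y hx hy hx1 hy1 hxy
  r1377 M hM := Cfsg.Agent.S1377.result hG M hM
  sigmaBeta := BG14.SigmaBeta.typeP2SigmaBeta hG

end Cfsg.Agent.Lib.OddOrder.Partner
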