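import Cfsg.Agent.Lib.OddOrder.Partner.Main
import Cfsg.Agent.Lib.OddOrder.BG14.TheoremB
import Cfsg.Agent.Lib.OddOrder.ComplementLines
import Cfsg.Agent.Lib.OddOrder.CentTauOne
import Cfsg.Agent.Lib.OddOrder.BetaDerived
import Cfsg.Agent.Lib.OddTau.RegularLocal
import Cfsg.Agent.Lib.OddTau.PlaneLines
import Cfsg.Agent.S1353

/-!
# BG 14.12: the maximal subgroups over the normalizers of the Sylow subgroups of `U`
-/

set_option autoImplicit false
set_option linter.style.haveILetI false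
set_option linter.unusedSectionVars false

open scoped Pointwise commutatorElement

namespace Cfsg.Agent.Lib.OddOrder.Partner

open Cfsg.Agent.Lib.OddOrder Cfsg.Agent.Lib.OddOrder.MinSimple

universe u

variable {G : Type u} [Group G] [Finite G] {M N L H K U Z : Subgroup G}

/-- A conjugate of `M*` containing a non-identity element of `K` is `M*`. -/
theorem IsPartner.eq_of_conj_mem (h : Hyp G) (P : Pair Z M K) (hP : IsPartner M K N) {k g : G}
    (hk : k ∈ K) (hk1 : k ≠ 1) (hg : L = N.map (MulAut.conj g).toMonoidHom) (hkL : k ∈ L) :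
    L = N := by
  have P₂ := hP.pair h P
  by_cases hgN : g ∈ N
  · rw [hg, map_conj_of_mem hgN]
  exfalso
  have h1 : k ∈ star N (star M K) ⊓ N.map (MulAut.conj g).toMonoidHom := ⟨hP.eq ▸ hk, hg ▸ hkL⟩
  rw [(h.r1431 N P₂.max _ P₂.hall P₂.ne).1 g hgN] at h1
  exact hk1 (Subgroup.mem_bot.1 h1)

/-- Elements of `K` act without fixed points on `L_σ` for `L` conjugate to neither `M` nor `M*`. -/
theorem IsPartner.fixed_free (h : Hyp G) (P : Pair Z M K) (hP : IsPartner M K N) {k : G} {p : ℕ}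
    (hp : p.Prime) (hk : k ∈ K) (hkp : orderOf k = p) (hL : IsCoatom L) (hLN : L ≠ N) (hkL : k ∈ L)
    (hnc : ∀ g : G, L ≠ M.map (MulAut.conj g).toMonoidHom) :
    p ∉ Cfsg.sigma L ∧ Cfsg.sigmaCore L ⊓ Subgroup.centralizer ({k} : Set G) = ⊥ := by
  have hk1 := ne_one_of_prime hp hkp
  have hpσ : p ∉ Cfsg.sigma L := fun hσ => by
    obtain ⟨g, hg⟩ := h.conj_of_sigma hP.max hL
      (mem_sigma_of_mem (hP.eq.le hk).1 hp (hkp ▸ dvd_rfl)) hσ
    exact hLN (hP.eq_of_conj_mem h P hk hk1 hg hkL)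
  refine ⟨hpσ, (Subgroup.eq_bot_iff_forall _).2 fun z hz => ?_⟩
  by_contra hz1
  rcases h.dichotomy hL hz.1 hz1 hkL (Subgroup.mem_centralizer_singleton_iff.1 hz.2).symm hk1
    (fun q hq hd => by rw [hkp] at hd; exact (Nat.prime_dvd_prime_iff_eq hq hp).1 hd ▸ hpσ) with
    ⟨hκ, -⟩ | ⟨-, -, hCL, huniq⟩
  · obtain ⟨g, hg | hg⟩ := hP.conj_of_kappa h P hL ⟨p, hκ p hp (hkp ▸ dvd_rfl)⟩
    · exact hnc g hg
    · exact hLN (hP.eq_of_conj_mem h P hk hk1 hg hkL)
  · exact hLN (huniq N hP.max (hP.centralizer_le h P hk hk1)).symm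

/-- `[R, k]` centralizes `L_σ` when `k` acts on it without fixed points. -/
theorem commutator_le_centralizer (hG : Cfsg.IsMinSimpleOddOrder G) (hL : IsCoatom L)
    (hnil : Group.IsNilpotent (Cfsg.sigmaCore L)) {k : G} {p s : ℕ} [Fact p.Prime] [Fact s.Prime]
    (hsp : s ≠ p) (hkL : k ∈ L) (hkp : orderOf k = p) (hpσ : p ∉ Cfsg.sigma L)
    (hfix : Cfsg.sigmaCore L ⊓ Subgroup.centralizer ({k} : Set G) = ⊥) {R : Subgroup G}
    (hR : IsPGroup s R) (hRL : R ≤ L) (hkR : k ∈ Subgroup.normalizer (R : Set G))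
    (hsσ : s ∉ Cfsg.sigma L) :
    ⁅R, Subgroup.zpowers k⁆ ≤ Subgroup.centralizer (Cfsg.sigmaCore L : Set G) := by
  rw [Subgroup.le_centralizer_iff]
  refine Coprime.le_of_forall_sylow fun q hq => ?_
  haveI := Fact.mk hq
  obtain ⟨Q⟩ : Nonempty (Sylow q ↥(Cfsg.sigmaCore L)) := inferInstance
  refine ⟨Q, ?_⟩
  set Q₁ := (Q : Subgroup ↥(Cfsg.sigmaCore L)).map (Cfsg.sigmaCore L).subtype with hQ₁
  by_cases hQ1 : Q₁ = ⊥
  · rw [hQ1]; exact bot_le
  have hQσ : Q₁ ≤ Cfsg.sigmaCore L := Subgroup.map_subtype_le _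
  have hQp : IsPGroup q Q₁ := Q.2.map _
  have hqσ : q ∈ Cfsg.sigma L := OddTau.Basic.mem_sigma_of_dvd hq
    ((SigmaEmbedding.ne_one_of_pgroup hQp hQ1).trans (Subgroup.card_dvd_of_le hQσ))
  haveI := hnil
  haveI : (Q : Subgroup ↥(Cfsg.sigmaCore L)).Normal :=
    Sylow.normal_of_normalizerCondition Group.normalizerCondition_of_isNilpotent Q
  haveI : (Q : Subgroup ↥(Cfsg.sigmaCore L)).Characteristic :=
    Sylow.characteristic_of_normal Q inferInstance
  have hLQ : L ≤ Subgroup.normalizer (Q₁ : Set G) :=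
    (OddTau.Basic.le_normalizer_sigmaCore L).trans (Balance.le_normalizer_map_characteristic _)
  haveI : Group.IsSolvable ↥((Q₁ ⊔ R) ⊔ Subgroup.zpowers k) := by
    haveI := solvable_of_ne_top hG hL.1
    exact Coprime.isSolvable_of_le
      (sup_le (sup_le (hQσ.trans (OddTau.Basic.sigmaCore_le L)) hRL) (Subgroup.zpowers_le.2 hkL))
  rw [Subgroup.le_centralizer_iff]
  exact OddTau.Basic.commutator_centralizes_of_fpf hG.1 hsp.symm
    (fun e => hpσ (e ▸ hqσ)) (fun e => hsσ (e ▸ hqσ)) hQp hR hkp (hRL.trans hLQ) (hLQ hkL) hkR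
    (le_bot_iff.1 ((inf_le_inf_right _ hQσ).trans hfix.le))

/-- If `k` fixes no element of `B` but `1`, then `B = [B, k]`. -/
theorem le_commutator_zpowers {B : Subgroup G} {k : G} (hk : k ∈ Subgroup.normalizer (B : Set G))
    (hC : ∀ b ∈ B, Commute b k → b = 1) : B ≤ ⁅B, Subgroup.zpowers k⁆ := by
  let f : B → B := fun u => ⟨(u : G) * k * (u : G)⁻¹ * k⁻¹, by
    rw [show (u : G) * k * (u : G)⁻¹ * k⁻¹ = u * (k * (u : G)⁻¹ * k⁻¹) by group]
    exact mul_mem u.2 ((Subgroup.mem_normalizer_iff.1 hk _).1 (inv_mem u.2))⟩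
  have hf : Function.Injective f := fun u v e => by
    have e1 := mul_right_cancel (congrArg Subtype.val e : (u : G) * k * (u : G)⁻¹ * k⁻¹ = _)
    have h1 : Commute ((v⁻¹ * u : B) : G) k := by
      show _ = _
      calc ((v⁻¹ * u : B) : G) * k = (v : G)⁻¹ * ((u : G) * k * (u : G)⁻¹) * u := by
            simp only [Subgroup.coe_mul, Subgroup.coe_inv]; group
        _ = (v : G)⁻¹ * ((v : G) * k * (v : G)⁻¹) * u := by rw [e1]
        _ = k * ((v⁻¹ * u : B) : G) := by simp only [Subgroup.coe_mul, Subgroup.coe_inv]; group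
    exact (inv_mul_eq_one.1 (Subtype.ext (hC _ (v⁻¹ * u).2 h1) : v⁻¹ * u = 1)).symm
  intro x hx
  obtain ⟨u, hu⟩ := (Finite.injective_iff_surjective.1 hf) ⟨x, hx⟩
  rw [← show (u : G) * k * (u : G)⁻¹ * k⁻¹ = x from congrArg Subtype.val hu]
  exact Subgroup.commutator_mem_commutator u.2 (Subgroup.mem_zpowers k)

theorem dvd_card_of_tau2 {s : ℕ} (hs : s ∈ Cfsg.tau2 M) : s ∣ Nat.card M := by
  haveI := Fact.mk hs.1
  obtain ⟨A, hAM, hA, hAc⟩ := RankTwoPrime.exists_elemAb_sq hs.2.2.1 hs.2.2.2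
  exact (Rank.elemAb_prime_dvd hA (by rw [hAc]; exact Nat.one_lt_pow two_ne_zero hs.1.one_lt)).trans
    (Subgroup.card_dvd_of_le hAM)

/-- An element of `M` of prime order prime to `σ(M) ∪ κ(M)` is not in `M*`. -/
theorem IsPartner.notMem (h : Hyp G) (P : Pair Z M K) (hP : IsPartner M K N) {x : G} {r : ℕ}
    (hr : r.Prime) (hx : orderOf x = r) (hxM : x ∈ M) (hσ : r ∉ Cfsg.sigma M)
    (hκ : r ∉ Cfsg.kappa M) : x ∉ N := fun hxN => by
  have h1 : r ∣ Nat.card Z :=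
    dvd_card_of_mem (hP.inf_eq h P ▸ Subgroup.mem_inf.2 ⟨hxM, hxN⟩ : x ∈ Z) (hx ▸ dvd_rfl)
  rw [P.eq, card_sup_star P.hall] at h1
  rcases hr.dvd_mul.1 h1 with h' | h'
  · exact hκ (P.hall.2.1 r hr h')
  · exact hσ (OddTau.Basic.mem_sigma_of_dvd hr (h'.trans (Subgroup.card_dvd_of_le inf_le_left)))

/-- The key step of BG 14.12: no element of order `p` of `K` moves a line of an elementary abelian
subgroup of order `s²`, `s ∈ τ₂(L)`. -/
theorem IsPartner.moved (h : Hyp G) (P : Pair Z M K) (hP : IsPartner M K N) {k a : G} {p s : ℕ}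
    [Fact p.Prime] [Fact s.Prime] (hsp : s ≠ p) (hsM : s ∉ Cfsg.sigma M)
    (hsM2 : s ∉ Cfsg.tau2 M) (hL : IsCoatom L) (hLN : L ≠ N) (hsL : s ∈ Cfsg.tau2 L)
    (hk : k ∈ K) (hkp : orderOf k = p) (hkL : k ∈ L) (haL : a ∈ L) (has : orderOf a = s)
    (hka : k * a * k⁻¹ ∈ Subgroup.zpowers a) (hne : ¬ Commute k a) : False := by
  have hG := h.min
  have hp : p.Prime := Fact.out
  have hs : s.Prime := Fact.out
  have hk1 := ne_one_of_prime hp hkp
  have hkN : k ∈ Cfsg.sigmaCore N := (hP.eq.le hk).1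
  have hnot2 : ∀ L' : Subgroup G, s ∈ Cfsg.tau2 L' →
      ∀ g : G, L' ≠ M.map (MulAut.conj g).toMonoidHom := fun L' hs' g e => hsM2 (by
    rwa [e, tau2_conj_eq] at hs')
  obtain ⟨hpL, hfix⟩ := hP.fixed_free h P hp hk hkp hL hLN hkL (hnot2 L hsL)
  have hkn : Subgroup.zpowers k ≤ Subgroup.normalizer (Subgroup.zpowers a : Set G) :=
    Subgroup.zpowers_le.2 (OddTau.PlaneLines.mem_normalizer_zpowers hka)
  obtain ⟨E, hE, hYE⟩ := BG14.TauTwoSigma.exists_compl_ge hG hL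
    (sup_le (Subgroup.zpowers_le.2 haL) (Subgroup.zpowers_le.2 hkL) :
      Subgroup.zpowers a ⊔ Subgroup.zpowers k ≤ L) fun q hq hd => by
        rcases SigmaSubgroup.relIndex_sup_right_le q hq hd hkn with h' | h'
        · rw [Nat.card_zpowers, has] at h'
          exact (Nat.prime_dvd_prime_iff_eq hq hs).1 h' ▸ hsL.2.1
        · rw [Nat.card_zpowers, hkp] at h'
          exact (Nat.prime_dvd_prime_iff_eq hq hp).1 h' ▸ hpL
  obtain ⟨B, hBE, hB⟩ := OddTau.TauTwoAbelian.exists_ctx hG hL hE hsL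
  have hEB := OddTau.Context.le_normalizer_of_compl hB hE hBE
  have haE : Subgroup.zpowers a ≤ E := le_sup_left.trans hYE
  have haB : Subgroup.zpowers a ≤ B := OddTau.Context.le_of_card_prime hB
    (Subgroup.zpowers_le.2 haL) (haE.trans hEB) (by rw [Nat.card_zpowers, has])
  have hkB : k ∈ Subgroup.normalizer (B : Set G) :=
    hEB (hYE (Subgroup.mem_sup_right (Subgroup.mem_zpowers k)))
  set V := ⁅B, Subgroup.zpowers k⁆ with hV
  have hVC : ∀ L' : Subgroup G, OddTau.Basic.Ctx L' s B → p ∉ Cfsg.sigma L' → k ∈ L' →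
      Cfsg.sigmaCore L' ⊓ Subgroup.centralizer ({k} : Set G) = ⊥ →
      V ≤ Subgroup.centralizer (Cfsg.sigmaCore L' : Set G) := fun L' hB' hp' hk' hf' =>
    commutator_le_centralizer hG hB'.max (OddTau.Exceptional.isNilpotent_sigmaCore hB') hsp hk' hkp
      hp' hf' hB'.isPGroup hB'.le hkB hB'.not_sigma
  -- `a ∈ [B, k]`
  have haV : a ∈ V := by
    have h1 : a * k * a⁻¹ * k⁻¹ ∈ V :=
      Subgroup.commutator_mem_commutator (haB (Subgroup.mem_zpowers a)) (Subgroup.mem_zpowers k)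
    have h2 : a * k * a⁻¹ * k⁻¹ ≠ 1 := fun e => hne (by
      rw [mul_inv_eq_one, mul_inv_eq_iff_eq_mul] at e
      exact e.symm)
    have h3 : a * k * a⁻¹ * k⁻¹ ∈ Subgroup.zpowers a := by
      rw [show a * k * a⁻¹ * k⁻¹ = a * (k * a * k⁻¹)⁻¹ by group]
      exact mul_mem (Subgroup.mem_zpowers a) (inv_mem hka)
    refine Subgroup.zpowers_le.2 h1 ?_
    rw [eq_zpowers (X := Subgroup.zpowers a) (p := s) (by rw [Nat.card_zpowers, has]) h3]
    · exact Subgroup.mem_zpowers a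
    · exact ((Nat.dvd_prime hs).1 (has ▸ dvd_of_mem_zpowers h3)).resolve_left
        fun e => h2 (orderOf_eq_one_iff.1 e)
  -- `a` centralizes `L'_σ`, so `C(a)` lies only in `L'`
  have huniq : ∀ L' : Subgroup G, OddTau.Basic.Ctx L' s B → p ∉ Cfsg.sigma L' → k ∈ L' →
      Cfsg.sigmaCore L' ⊓ Subgroup.centralizer ({k} : Set G) = ⊥ →
      Subgroup.centralizer (Subgroup.zpowers a : Set G) ≤ L' ∧ ∀ L₀ : Subgroup G, IsCoatom L₀ →
        Subgroup.centralizer (Subgroup.zpowers a : Set G) ≤ L₀ → L₀ = L' := by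
    intro L' hB' hp' hk' hf'
    refine OddTau.Context.unique_of_fixed hB' haB (by rw [Nat.card_zpowers, has]) fun e => ?_
    refine OddFitting.Decomp.sigmaCore_ne_bot hG hB'.max (le_bot_iff.1 ?_)
    rw [← e]
    refine le_inf le_rfl ?_
    rw [Subgroup.le_centralizer_iff]
    exact (Subgroup.zpowers_le.2 haV).trans (hVC L' hB' hp' hk' hf')
  obtain ⟨b, hbB, hb1, hbk⟩ : ∃ b ∈ B, b ≠ 1 ∧ Commute b k := by
    by_contra hno
    refine OddFitting.Decomp.sigmaCore_ne_bot hG hL (le_bot_iff.1 ?_)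
    rw [← OddTau.Context.centralizer_inf_eq_bot hB]
    refine le_inf le_rfl (Subgroup.le_centralizer_iff.1 ?_)
    refine (le_commutator_zpowers hkB fun b hb hc => ?_).trans (hVC L hB hpL hkL hfix)
    by_contra hb1
    exact hno ⟨b, hb, hb1, hc⟩
  have hbo := hB.orderOf_eq hbB hb1
  have hBC : B ≤ Subgroup.centralizer ({b} : Set G) := fun c hc =>
    Subgroup.mem_centralizer_singleton_iff.2 (hB.comm hc hbB).eq
  have hbN : b ∈ N := hP.centralizer_le h P hk hk1 (Subgroup.mem_centralizer_singleton_iff.2 hbk.eq)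
  have hsN : s ∈ Cfsg.sigma N := by
    by_contra hsN
    rcases h.dichotomy hP.max hkN hk1 hbN hbk hb1 (fun q hq hd => by
      rw [hbo] at hd; exact (Nat.prime_dvd_prime_iff_eq hq hs).1 hd ▸ hsN) with
      ⟨hκ, -⟩ | ⟨hτ, -, hCN, -⟩
    · have hκs := hκ s hs (hbo ▸ dvd_rfl)
      have h1 := hκs.2.1
      rw [← OddFitting.Decomp.card_mul_relIndex hP.hall.1] at h1
      exact hsM (OddTau.Basic.mem_sigma_of_dvd hs (((hs.dvd_mul.1 h1).resolve_right
        (hP.hall.2.2 s hs hκs)).trans (Subgroup.card_dvd_of_le inf_le_left)))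
    · exact hLN (OddTau.Unique.eq_of_meet
        ⟨hG, hP.max, hτ s hs (hbo ▸ dvd_rfl), hBC.trans hCN, hB.elem, hB.card⟩ hL hB.le
        fun e => hk1 (Subgroup.mem_bot.1 (e ▸ Subgroup.mem_inf.2 ⟨hkN, hkL⟩)))
  have haN : a ∉ N := fun haN => by
    have hβ : s ∉ Cfsg.beta N := fun hb' => RankTwoPrime.not_ideal hG hL hsL.2.2.1 hsL.2.2.2 hb'.2
    have hle := BetaCore.sigmaCore_le_derived hG hP.max
    have h1 := BetaDerived.derived_centralizes hG hP.max hβ
      (S := Subgroup.zpowers a) (SigmaDisjoint.zpowers_isPGroup has)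
      (Subgroup.zpowers_le.2 (hle (h.mem_sigmaCore_prime hP.max haN hs has hsN))) (hle hkN)
      (hkn (Subgroup.mem_zpowers k))
      (by rw [hkp]; exact (Nat.coprime_primes hp hs).2 hsp.symm)
    exact hne (Subgroup.mem_centralizer_iff.1 h1 a (Subgroup.mem_zpowers a)).symm
  have haC : a ∈ Subgroup.centralizer ({b} : Set G) := hBC (haB (Subgroup.mem_zpowers a))
  obtain ⟨N₁, hS⟩ := h.exists_spec hP.max (h.mem_sigmaCore_prime hP.max hbN hs hbo hsN) hb1
    fun hle => haN (hle haC)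
  have hsN₁ : s ∈ Cfsg.tau2 N₁ := hS.tau2 s hs (hbo ▸ dvd_rfl)
  have hkN₁ : k ∈ N₁ := hS.le (Subgroup.mem_centralizer_singleton_iff.2 hbk.symm.eq)
  obtain ⟨hpN₁, hfix₁⟩ := hP.fixed_free h P hp hk hkp hS.max (fun e => hsN₁.2.1 (e ▸ hsN)) hkN₁
    (hnot2 N₁ hsN₁)
  have hB₁ : OddTau.Basic.Ctx N₁ s B := ⟨hG, hS.max, hsN₁, hBC.trans hS.le, hB.elem, hB.card⟩
  have hN₁L : N₁ = L :=
    (huniq L hB hpL hkL hfix).2 N₁ hS.max (huniq N₁ hB₁ hpN₁ hkN₁ hfix₁).1
  subst hN₁L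
  obtain ⟨e, he, t, ht, hat⟩ := hS.compl.2.2.2 a (hS.le haC)
  have hct : Commute a t := ((Subgroup.mem_centralizer_iff.1
    (hVC N₁ hB₁ hpN₁ hkN₁ hfix₁ haV)) t ht).symm
  have hte : a ^ orderOf t = e ^ orderOf t := by
    have h1 : e = a * t⁻¹ := by rw [hat, mul_inv_cancel_right]
    rw [h1, (hct.inv_right).mul_pow, inv_pow, pow_orderOf_eq_one, inv_one, mul_one]
  obtain ⟨m, hm⟩ := exists_pow_eq_self_of_coprime (x := a) (n := orderOf t)
    (has.symm ▸ ((Nat.Prime.coprime_iff_not_dvd hs).2 fun hd =>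
      hsL.2.1 (mem_sigma_of_mem ht hs hd)).symm)
  refine haN ?_
  rw [← hm, hte]
  exact pow_mem (pow_mem he.1 _) _

theorem eq_of_full {r : ℕ} [hr : Fact r.Prime] {R Q : Subgroup G} (hQ : IsPGroup r Q) (hRQ : R ≤ Q)
    (hQM : Q ≤ M) (hfull : ¬ r ∣ R.relIndex M) : Q = R := by
  refine le_antisymm (Subgroup.relIndex_eq_one.1 ?_) hRQ
  obtain ⟨n, hn⟩ := IsPGroup.iff_card.1 hQ
  obtain ⟨i, -, hi⟩ := (Nat.dvd_prime_pow hr.out).1 (hn ▸ Subgroup.relIndex_dvd_card R Q)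
  rcases i.eq_zero_or_pos with h0 | h0
  · rw [hi, h0, pow_zero]
  · refine absurd ?_ hfull
    rw [← Subgroup.relIndex_mul_relIndex R Q M hRQ hQM, hi]
    exact dvd_mul_of_dvd_left (dvd_pow_self r h0.ne') _

theorem comm_of_pgroup (hG : Cfsg.IsMinSimpleOddOrder G) (hL : IsCoatom L) {r : ℕ} [hr : Fact r.Prime]
    (hrσ : r ∉ Cfsg.sigma L) {T : Subgroup G} (hTL : T ≤ L) (hT : IsPGroup r T) :
    IsMulCommutative T := by
  obtain ⟨E, hE⟩ := MaximalBasics.exists_compl hG hL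
  exact (Cfsg.Agent.S1420.result hG L hL E hE).1 T hTL hT.isNilpotent fun q hq hd =>
    Hall.prime_dvd_pgroup hr.out hq hT hd ▸ hrσ

theorem le_centralizer_of_comm {A B T : Subgroup G} (hT : IsMulCommutative T) (hA : A ≤ T)
    (hB : B ≤ T) : A ≤ Subgroup.centralizer (B : Set G) :=
  hA.trans ((Subgroup.le_centralizer_iff_isMulCommutative.2 hT).trans
    (Subgroup.centralizer_le (SetLike.coe_subset_coe.2 hB)))

/-- The facts about `U` used below. -/
structure Factors (M K U : Subgroup G) : Prop where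
  dec : Cfsg.IsSigmaDecomposition M K U
  hall : Cfsg.IsPiHallOf {q | q.Prime ∧ q ∉ Cfsg.kappa M ∧ q ∉ Cfsg.sigma M} U M
  comm : IsMulCommutative U
  free : ∀ k ∈ K, k ≠ 1 → U ⊓ Subgroup.centralizer ({k} : Set G) = ⊥
  fix : Cfsg.sigmaCore M ⊓ Subgroup.centralizer (U : Set G) = ⊥
  notP1 : ¬ IsP1 M

theorem exists_factors (h : Hyp G) (hM : IsCoatom M) (hKU : Cfsg.IsSigmaDecomposition M K U)
    (hK1 : K ≠ ⊥) (hU1 : U ≠ ⊥) : Factors M K U := by
  have h1 : ¬ IsP1 M := fun e => hU1 ((isP1_iff h hM hKU).1 e)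
  have hU := BG14.TheoremB.U_hall h.min hM hKU
  refine ⟨hKU, hU, BG14.TheoremB.U_abelian h.min hM hKU hK1,
    Cfsg.Agent.S1353.result h.min M hM K U hKU, ?_, h1⟩
  obtain ⟨q, hq, hd⟩ := Nat.exists_prime_and_dvd (mt Subgroup.card_eq_one.1 hU1)
  haveI := Fact.mk hq
  obtain ⟨hqσ, hqκ⟩ := (hU.2.1 q hq hd).2.symm
  obtain ⟨S, hS⟩ := exists_sylow_le_hall h hM hU (hU.2.1 q hq hd)
  obtain ⟨-, hfix, -⟩ := Cfsg.Agent.S1429.result h.min M hM h1 q
    (hd.trans (Subgroup.card_dvd_of_le hU.1)) (by simp [hqσ, hqκ]) S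
  refine le_bot_iff.1 ((inf_le_inf_left _ (Subgroup.centralizer_le
    (SetLike.coe_subset_coe.2 ?_))).trans hfix.le)
  exact (Subgroup.closure_le _).2 fun x hx => hS hx.1

theorem Factors.normalizes (F : Factors M K U) {r : ℕ} [Fact r.Prime] (R : Sylow r U) :
    (R : Subgroup U).map U.subtype ≤ U ∧
      U ≤ Subgroup.normalizer (((R : Subgroup U).map U.subtype : Subgroup G) : Set G) ∧
      K ≤ Subgroup.normalizer (((R : Subgroup U).map U.subtype : Subgroup G) : Set G) := by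
  haveI := F.comm
  haveI hn : (R : Subgroup U).Normal := ⟨fun a ha g => by
    rwa [mul_comm' g a, mul_inv_cancel_right]⟩
  haveI : (R : Subgroup U).Characteristic := Sylow.characteristic_of_normal R hn
  exact ⟨Subgroup.map_subtype_le _,
    Subgroup.le_normalizer.trans (Balance.le_normalizer_map_characteristic _),
    F.dec.normal.trans (Balance.le_normalizer_map_characteristic _)⟩

theorem Factors.sylow_full (F : Factors M K U) {r : ℕ} [hr : Fact r.Prime] (hd : r ∣ Nat.card U)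
    (R : Sylow r U) : ¬ r ∣ ((R : Subgroup U).map U.subtype).relIndex M := by
  rw [← Subgroup.relIndex_mul_relIndex _ U M (Subgroup.map_subtype_le _) F.hall.1,
    Basic.relIndex_map_subtype, hr.out.dvd_mul, not_or]
  exact ⟨R.not_dvd_index, F.hall.2.2 r hr.out (F.hall.2.1 r hr.out hd)⟩

theorem Factors.mem_H (F : Factors M K U) {r : ℕ} [Fact r.Prime] {R : Sylow r U}
    (hNR : Subgroup.normalizer (((R : Subgroup U).map U.subtype : Subgroup G) : Set G) ≤ H) :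
    U ≤ H ∧ K ≤ H :=
  ⟨(F.normalizes R).2.1.trans hNR, (F.normalizes R).2.2.trans hNR⟩

/-- `H ≠ M, M*` and `r ∈ σ(H)` for `H ≥ N(R)`. -/
theorem Factors.sigma_of_normalizer (h : Hyp G) (P : Pair Z M K) (hP : IsPartner M K N)
    (F : Factors M K U) {r : ℕ} [hr : Fact r.Prime] (hd : r ∣ Nat.card U) (R : Sylow r U)
    (hH : IsCoatom H)
    (hNR : Subgroup.normalizer (((R : Subgroup U).map U.subtype : Subgroup G) : Set G) ≤ H) :
    r ∈ Cfsg.sigma H ∧ H ≠ M ∧ H ≠ N := by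
  have hG := h.min
  obtain ⟨hUH, hKH⟩ := F.mem_H hNR
  obtain ⟨hrp, hrκ, hrσ⟩ := F.hall.2.1 r hr.out hd
  have hfull := F.sylow_full hd R
  set R₁ := (R : Subgroup U).map U.subtype with hR₁
  have hR₁U : R₁ ≤ U := (F.normalizes R).1
  have hR₁M : R₁ ≤ M := hR₁U.trans F.hall.1
  have hR₁p : IsPGroup r R₁ := R.2.map _
  obtain ⟨x, hx, hxo⟩ : ∃ x ∈ R₁, orderOf x = r := exists_orderOf hr.out (by
    rw [hR₁, Subgroup.card_subtype]; exact R.dvd_card_of_dvd_card hd)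
  have hR1 : R₁ ≠ ⊥ := fun e => ne_one_of_prime hr.out hxo (Subgroup.mem_bot.1 (e ▸ hx))
  have hnotM : ∀ T : Subgroup G, R₁ ≤ T → IsPGroup r T → T ≤ M → T = R₁ := fun T h1 h2 h3 =>
    eq_of_full h2 h1 h3 hfull
  have hNM : ¬ Subgroup.normalizer (R₁ : Set G) ≤ M := fun hle => by
    obtain ⟨S, hS⟩ := OddFitting.Decomp.exists_sylow_eq hR₁M hR₁p hfull
    exact hrσ ⟨hr.out, hd.trans (Subgroup.card_dvd_of_le F.hall.1), S, hS.symm ▸ hle⟩
  have hHN : H ≠ N := fun e =>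
    hP.notMem h P hr.out hxo (hR₁M hx) hrσ hrκ (e ▸ hUH (hR₁U hx))
  refine ⟨?_, fun e => hNM (e ▸ hNR), hHN⟩
  by_contra hrH
  by_cases hτ : r ∈ Cfsg.tau2 M
  · obtain ⟨Q, B, hRQ, hBQ, hB⟩ :=
      OddTau.RegularLocal.exists_ctx_sylow hG P.max hτ hR₁p hR₁M
    rw [hnotM _ hRQ (Q.2.map _) (Subgroup.map_subtype_le _)] at hBQ
    obtain ⟨T, hT⟩ := (hR₁p.comap_subtype (K := H)).exists_le_sylow
    set T₁ := (T : Subgroup H).map H.subtype with hT₁
    have hRT : R₁ ≤ T₁ := fun y hy => ⟨⟨y, hUH (hR₁U hy)⟩, hT hy, rfl⟩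
    have hT₁M : T₁ ≤ M := (le_centralizer_of_comm
      (comm_of_pgroup hG hH hrH (Subgroup.map_subtype_le _) (T.2.map _)) le_rfl
      (hBQ.trans hRT)).trans hB.centralizer_le
    have e : T₁ = R₁ := hnotM T₁ hRT (T.2.map _) hT₁M
    exact hrH ⟨hr.out, dvd_card_of_mem (hUH (hR₁U hx)) (hxo ▸ dvd_rfl), T,
      (show Subgroup.normalizer (T₁ : Set G) ≤ H from e.symm ▸ hNR)⟩
  · have hτH := (SigmaEmbedding.mem_sigma_or_tau2 hG hH hR₁p hR1 hNR).resolve_left hrH
    haveI : IsCyclic R₁ := SigmaCompl.isCyclic_of_prankLE_one hG hR₁M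
      (BG14.NonKappa.prankLE_one_of_tau13 ((BG14.NonKappa.mem_tau_cases hG P.max hr.out
        (hd.trans (Subgroup.card_dvd_of_le F.hall.1)) hrσ).resolve_right hτ)) hR₁p
    obtain ⟨q, hq, hqd⟩ := Nat.exists_prime_and_dvd (mt Subgroup.card_eq_one.1 P.ne)
    haveI := Fact.mk hq
    obtain ⟨k, hk, hko⟩ := exists_orderOf hq hqd
    refine hP.moved h P (s := r) (fun e => hrκ (e ▸ P.hall.2.1 q hq hqd)) hrσ hτ hH hHN hτH hk hko
      (hKH hk) (hUH (hR₁U hx)) hxo ?_ fun hc => ne_one_of_prime hr.out hxo ?_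
    · have h1 : k * x * k⁻¹ ∈ R₁ :=
        (Subgroup.mem_normalizer_iff.1 ((F.normalizes R).2.2 hk) x).1 hx
      rw [← Cyclic.eq_of_card_eq_of_isCyclic (W := R₁) (Subgroup.zpowers_le.2 h1)
        (Subgroup.zpowers_le.2 hx) (by
          rw [Nat.card_zpowers, Nat.card_zpowers]
          exact MulEquiv.orderOf_eq (MulAut.conj k) x)]
      exact Subgroup.mem_zpowers _
    · exact Subgroup.mem_bot.1 (F.free k hk (ne_one_of_prime hq hko) ▸
        ⟨hR₁U hx, Subgroup.mem_centralizer_singleton_iff.2 hc.symm.eq⟩)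

/-- BG 14.12 for `H ≥ N(R)`: `κ(H) = ∅` and `U ≤ H_σ`. -/
theorem Factors.kappa_empty (h : Hyp G) (P : Pair Z M K) (hP : IsPartner M K N)
    (F : Factors M K U) {r : ℕ} [hr : Fact r.Prime] (hd : r ∣ Nat.card U) (R : Sylow r U)
    (hH : IsCoatom H)
    (hNR : Subgroup.normalizer (((R : Subgroup U).map U.subtype : Subgroup G) : Set G) ≤ H) :
    Cfsg.kappa H = ∅ ∧ U ≤ Cfsg.sigmaCore H ∧
      (∀ g : G, H ≠ M.map (MulAut.conj g).toMonoidHom) := by
  obtain ⟨hUH, hKH⟩ := F.mem_H hNR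
  obtain ⟨hrH, hHM, hHN⟩ := F.sigma_of_normalizer h P hP hd R hH hNR
  obtain ⟨-, hrκ, hrσ⟩ := F.hall.2.1 r hr.out hd
  have hnc : ∀ g : G, H ≠ M.map (MulAut.conj g).toMonoidHom := fun g e => by
    rw [e, sigma_conj_eq] at hrH; exact hrσ hrH
  have hκ : Cfsg.kappa H = ∅ := Set.not_nonempty_iff_eq_empty.1 fun hne => by
    obtain ⟨g, hg | hg⟩ := hP.conj_of_kappa h P hH hne
    · exact hnc g hg
    · obtain ⟨k, hk, hk1⟩ := (Subgroup.bot_or_exists_ne_one K).resolve_left P.ne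
      exact hHN (hP.eq_of_conj_mem h P hk hk1 hg (hKH hk))
  refine ⟨hκ, SigmaSubgroup.le_sigmaCore h.min hH hUH fun q hq hqd => ?_, hnc⟩
  haveI := Fact.mk hq
  by_contra hqH
  obtain ⟨x, hx, hxo⟩ : ∃ x ∈ (R : Subgroup U).map U.subtype, orderOf x = r :=
    exists_orderOf hr.out (by rw [Subgroup.card_subtype]; exact R.dvd_card_of_dvd_card hd)
  have hxU : x ∈ U := (F.normalizes R).1 hx
  have hxσ : x ∈ Cfsg.sigmaCore H := h.mem_sigmaCore_prime hH (hUH hxU) hr.out hxo hrH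
  obtain ⟨Q⟩ : Nonempty (Sylow q U) := inferInstance
  obtain ⟨u, hu, huo⟩ : ∃ u ∈ (Q : Subgroup U).map U.subtype, orderOf u = q :=
    exists_orderOf hq (by rw [Subgroup.card_subtype]; exact Q.dvd_card_of_dvd_card hqd)
  have huU : u ∈ U := (F.normalizes Q).1 hu
  have hu1 := ne_one_of_prime hq huo
  haveI := F.comm
  rcases h.dichotomy hH hxσ (ne_one_of_prime hr.out hxo) (hUH huU)
    (show Commute u x from congrArg Subtype.val (mul_comm' (⟨u, huU⟩ : U) ⟨x, hxU⟩)) hu1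
    (fun s hs hd' => by rw [huo] at hd'; exact (Nat.prime_dvd_prime_iff_eq hs hq).1 hd' ▸ hqH) with
    ⟨hκ', -⟩ | ⟨-, -, hCH, huniq⟩
  · exact (hκ ▸ hκ' q hq (huo ▸ dvd_rfl) : q ∈ (∅ : Set ℕ))
  obtain ⟨H', hH', hNQ⟩ := exists_coatom_ge h.min (normalizer_ne_top h.min
    (fun e => hu1 (Subgroup.mem_bot.1 (e ▸ hu))) (pgroup_ne_top h.min (Q.2.map U.subtype)))
  obtain ⟨hUH', -⟩ := F.mem_H hNQ
  have hqH' := (F.sigma_of_normalizer h P hP hqd Q hH' hNQ).1
  have huσ : u ∈ Cfsg.sigmaCore H' := h.mem_sigmaCore_prime hH' (hUH' huU) hq huo hqH'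
  have hle : ¬ Subgroup.centralizer ({u} : Set G) ≤ H' := fun hle =>
    hqH (huniq H' hH' hle ▸ hqH')
  exact ne_one_of_prime hr.out hxo (Subgroup.mem_bot.1
    ((h.spec_of hH' huσ hu1 hle hH hCH).compl.2.2.1 ▸ ⟨⟨hUH' hxU, hUH hxU⟩, hxσ⟩))

/-- BG 14.12: `E ≤ M*` and `K ≤ F(E)` for a complement `E` of `H_σ` containing `K`. -/
theorem Factors.compl_le (h : Hyp G) (P : Pair Z M K) (hP : IsPartner M K N)
    (F : Factors M K U) (hH : IsCoatom H) (hHN : H ≠ N) (hκ : Cfsg.kappa H = ∅)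
    (hnc : ∀ g : G, H ≠ M.map (MulAut.conj g).toMonoidHom) (hUσ : U ≤ Cfsg.sigmaCore H)
    (hnil : Group.IsNilpotent (Cfsg.sigmaCore H)) (hKH : K ≤ H) {E : Subgroup G}
    (hE : Cfsg.IsComplIn E (Cfsg.sigmaCore H) H) (hKE : K ≤ E) :
    E ≤ N ∧ K ≤ Cfsg.fittingOf E := by
  have hG := h.min
  have hp : (Nat.card K).Prime := card_prime_of_not_isP1 h P F.notP1
  set p := Nat.card K with hpdef
  haveI := Fact.mk hp
  obtain ⟨k, hk, hkp⟩ := exists_orderOf hp dvd_rfl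
  have hk1 := ne_one_of_prime hp hkp
  have hKk : Subgroup.zpowers k = K := eq_zpowers rfl hk hkp
  have hkH : k ∈ H := hKH hk
  obtain ⟨hpH, hfix⟩ := hP.fixed_free h P hp hk hkp hH hHN hkH hnc
  have hpN : p ∈ Cfsg.sigma N := mem_sigma_of_mem (hP.eq.le hk).1 hp (hkp ▸ dvd_rfl)
  have hKn : ∀ {A : Subgroup G}, A ≤ Subgroup.normalizer (K : Set G) → A ≤ N := fun hA =>
    hA.trans (hP.normalizer_le h P le_rfl hp)
  have hKnil : Group.IsNilpotent K := (IsPGroup.of_card (p := p) (n := 1) (pow_one _).symm).isNilpotent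
  rcases BG14.NonKappa.mem_tau_cases hG hH hp (dvd_card_of_mem hkH (hkp ▸ dvd_rfl)) hpH with
    (hτ | hτ) | hτ
  rotate_left
  · -- `p ∈ τ₃(H)`
    obtain ⟨hEK, -⟩ := ComplementLines.compl_le_normalizer hG hH hE hτ rfl hKE
    exact ⟨hKn hEK, Fitting.le_fittingOf hKE hEK hKnil⟩
  · -- `p ∈ τ₂(H)`
    obtain ⟨B, hBE, hB⟩ := OddTau.TauTwoAbelian.exists_ctx hG hH hE hτ
    have hEB := OddTau.Context.le_normalizer_of_compl hB hE hBE
    have hKB : K ≤ B := OddTau.Context.le_of_card_prime hB hKH (hKE.trans hEB) rfl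
    have hBC : B ≤ N := fun c hc => hP.centralizer_le h P hk hk1
      (Subgroup.mem_centralizer_singleton_iff.2 (hB.comm hc (hKB hk)).eq)
    exact ⟨hEB.trans (SigmaEmbedding.normalizer_le_of_not_isCyclic hG hP.max hpN hB.isPGroup hBC
      hB.not_isCyclic), hKB.trans (Fitting.le_fittingOf hBE hEB hB.isPGroup.isNilpotent)⟩
  -- `p ∈ τ₁(H)`: `k` is central in `E`
  haveI := h.solvable hH
  haveI : Group.IsSolvable E := Coprime.isSolvable_of_le hE.1
  suffices hC : E ≤ Subgroup.centralizer ({k} : Set G) by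
    refine ⟨hC.trans (hP.centralizer_le h P hk hk1), Fitting.le_fittingOf hKE ?_ hKnil⟩
    refine hC.trans ?_
    rw [← hKk]
    exact BG14.Support.centralizer_le_normalizer_zpowers k
  have hkE : k ∈ E := hKE hk
  refine Coprime.le_of_forall_sylow fun s hs => ?_
  haveI := Fact.mk hs
  by_cases hsE : s ∣ Nat.card E
  swap
  · obtain ⟨S⟩ : Nonempty (Sylow s E) := inferInstance
    refine ⟨S, ?_⟩
    have hS1 : (S : Subgroup E) = ⊥ := by
      by_contra hne
      exact hsE ((SigmaEmbedding.ne_one_of_pgroup S.2 hne).trans (Subgroup.card_subgroup_dvd_card _))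
    rw [hS1, Subgroup.map_bot]
    exact bot_le
  by_cases hsp : s = p
  · obtain ⟨S, hS⟩ := ((IsPGroup.of_card (p := s) (n := 1) (by rw [hsp, pow_one]) :
      IsPGroup s K).comap_subtype (K := E)).exists_le_sylow
    refine ⟨S, ?_⟩
    haveI : IsCyclic ((S : Subgroup E).map E.subtype) := SigmaCompl.isCyclic_of_prankLE_one hG
      ((Subgroup.map_subtype_le _).trans hE.1) (hsp ▸ hτ.2.2.2.2) (S.2.map _)
    intro y hy
    have hkS : k ∈ (S : Subgroup E).map E.subtype := ⟨⟨k, hkE⟩, hS hk, rfl⟩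
    haveI : IsMulCommutative ↥((S : Subgroup E).map E.subtype) := IsCyclic.isMulCommutative
    exact Subgroup.mem_centralizer_singleton_iff.2 (congrArg Subtype.val
      (mul_comm' (⟨y, hy⟩ : ↥((S : Subgroup E).map E.subtype)) ⟨k, hkS⟩))
  have hkn : Subgroup.zpowers k ≤ E := Subgroup.zpowers_le.2 hkE
  have hcard : ∀ q : ℕ, q.Prime → q ∣ Nat.card (Subgroup.zpowers k) → q = p := fun q hq hd => by
    rw [Nat.card_zpowers, hkp] at hd
    exact (Nat.prime_dvd_prime_iff_eq hq hp).1 hd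
  have hsH : s ∣ Nat.card H := hsE.trans (Subgroup.card_dvd_of_le hE.1)
  have hsσ : s ∉ Cfsg.sigma H := OddTau.TauTwoAbelian.not_sigma_of_dvd hG hH hE hs hsE
  rcases OddTau.Regular.mem_tau_of_dvd hG hH hE hs hsE with (hs1 | hs3) | hs2
  · -- `s ∈ τ₁`
    obtain ⟨E₁, hE₁, hkE₁⟩ := OddFitting.CentralizerHall.exists_hall_ge (M := E)
      (π := Cfsg.tau1 H) hkn fun q hq hd => hcard q hq hd ▸ hτ
    obtain ⟨S, hS⟩ := CentTauOne.exists_sylow_le hE₁.1 (hE₁.2.2 s hs hs1)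
    refine ⟨S, fun y hy => ?_⟩
    haveI := (SigmaCompl.spec hG hH hE).2.1 E₁ hE₁
    haveI : IsMulCommutative E₁ := IsCyclic.isMulCommutative
    exact Subgroup.mem_centralizer_singleton_iff.2 (congrArg Subtype.val
      (mul_comm' (⟨y, hS hy⟩ : E₁) ⟨k, hkE₁ (Subgroup.mem_zpowers k)⟩))
  · -- `s ∈ τ₃`
    obtain ⟨E₃, hE₃⟩ := Hall.exists_isPiHallOf (Cfsg.tau3 H) E
    obtain ⟨S, hS⟩ := CentTauOne.exists_sylow_le hE₃.1 (hE₃.2.2 s hs hs3)
    refine ⟨S, ?_⟩
    obtain ⟨hc₃, -, hn₃⟩ := (SigmaCompl.spec hG hH hE).2.2 E₃ hE₃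
    haveI := hc₃
    set S₁ := (S : Subgroup E).map E.subtype with hS₁
    have hkS : k ∈ Subgroup.normalizer (S₁ : Set G) := by
      refine Subgroup.mem_normalizer_iff_map_conj_eq.2 ?_
      refine Cyclic.eq_of_card_eq_of_isCyclic (W := E₃) ?_ hS
        (Subgroup.card_map_of_injective (MulAut.conj k).injective)
      rintro _ ⟨y, hy, rfl⟩
      exact (Subgroup.mem_normalizer_iff.1 (hn₃ hkE) y).1 (hS hy)
    have hle := commutator_le_centralizer hG hH hnil hsp hkH hkp hpH hfix (S.2.map E.subtype)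
      ((Subgroup.map_subtype_le _).trans hE.1) hkS hsσ
    by_contra hbad
    obtain ⟨y, hy, hy1⟩ := (Subgroup.bot_or_exists_ne_one ⁅S₁, Subgroup.zpowers k⁆).resolve_left
      fun e => hbad ((Subgroup.commutator_eq_bot_iff_le_centralizer.1 e).trans
        (SigmaDisjoint.centralizer_zpowers k).le)
    obtain ⟨q, hq, c, hc, hco⟩ := exists_prime_pow hy1
    have hcy := Subgroup.zpowers_le.2 hy hc
    have hcS : c ∈ S₁ :=
      Coprime.commutator_le_of_le_normalizer (Subgroup.zpowers_le.2 hkS) hcy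
    have hqs : q = s := Hall.prime_dvd_pgroup hs hq (S.2.map E.subtype)
      (dvd_card_of_mem hcS (hco ▸ dvd_rfl))
    obtain ⟨z, hz, hz1⟩ := (Subgroup.bot_or_exists_ne_one _).resolve_left
      (OddFitting.Decomp.sigmaCore_ne_bot hG hH)
    have h1 := BG14.NonKappa.mem_kappa_of_fixed hG (Or.inr hs3)
      (hE.1 (Subgroup.map_subtype_le _ hcS)) (hco.trans hqs) hz hz1
      (Subgroup.mem_centralizer_iff.1 (hle hcy) z hz).symm
    rw [hκ] at h1
    exact h1
  · -- `s ∈ τ₂`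
    obtain ⟨B, hBE, hB⟩ := OddTau.TauTwoAbelian.exists_ctx hG hH hE hs2
    have hEB := OddTau.Context.le_normalizer_of_compl hB hE hBE
    have hkB : k ∈ Subgroup.normalizer (B : Set G) := hEB hkE
    have hcoB : (Nat.card (Subgroup.zpowers k)).Coprime (Nat.card B) := by
      rw [Nat.card_zpowers, hkp, hB.card]
      exact ((Nat.coprime_primes hp hs).2 (Ne.symm hsp)).pow_right 2
    have hsM : s ∉ Cfsg.sigma M := fun hσ => by
      rw [h.sigmaBeta M K U P.max F.dec P.ne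
        (fun e => F.notP1 ((isP1_iff h P.max F.dec).2 e))] at hσ
      exact RankTwoPrime.not_ideal hG hH hs2.2.2.1 hs2.2.2.2 hσ.2
    have hsM2 : s ∉ Cfsg.tau2 M := fun hτM => by
      refine hs2.2.1 (OddTau.Basic.mem_sigma_of_dvd hs
        (Dvd.dvd.trans ?_ (Subgroup.card_dvd_of_le hUσ)))
      have h1 := dvd_card_of_tau2 hτM
      rw [← OddFitting.Decomp.card_mul_relIndex F.hall.1] at h1
      refine (hs.dvd_mul.1 h1).resolve_right (F.hall.2.2 s hs ⟨hs, fun hκs => ?_, hsM⟩)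
      exact BG14.NonKappa.not_tau2_of_kappa hκs hτM
    -- `k` centralizes `B`
    have hBk : B ≤ Subgroup.centralizer ({k} : Set G) := by
      by_contra hbad
      set V := ⁅B, Subgroup.zpowers k⁆ with hV
      have hzn := Subgroup.zpowers_le.2 hkB
      have hVB : V ≤ B := Coprime.commutator_le_of_le_normalizer hzn
      have hVC : V ≤ Subgroup.centralizer (Cfsg.sigmaCore H : Set G) :=
        commutator_le_centralizer hG hH hnil hsp hkH hkp hpH hfix hB.isPGroup hB.le hkB hsσ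
      have hV1 : V ≠ ⊥ := fun e => hbad ((Subgroup.commutator_eq_bot_iff_le_centralizer.1 e).trans
        (SigmaDisjoint.centralizer_zpowers k).le)
      have hVne : V ≠ B := fun e => by
        refine OddFitting.Decomp.sigmaCore_ne_bot hG hH (le_bot_iff.1 ?_)
        rw [← OddTau.Context.centralizer_inf_eq_bot hB]
        exact le_inf le_rfl (Subgroup.le_centralizer_iff.1 (e ▸ hVC))
      have hVc : Nat.card V = s :=
        ((OddTau.PlaneLines.card_cases hB hVB).resolve_left hV1).resolve_right hVne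
      obtain ⟨a, ha, hao⟩ := exists_orderOf (H := V) hs (by rw [hVc])
      have hVa : Subgroup.zpowers a = V := eq_zpowers hVc ha hao
      have hkV : k ∈ Subgroup.normalizer (V : Set G) :=
        Coprime.right_le_normalizer_commutator B _ (Subgroup.mem_zpowers k)
      refine hP.moved h P hsp hsM hsM2 hH hHN hs2 hk hkp hkH (hB.le (hVB ha)) hao
        (hVa.symm ▸ (Subgroup.mem_normalizer_iff.1 hkV a).1 ha) fun hc => hV1 ?_
      rw [hV, ← Coprime.commutator_commutator_eq hzn hcoB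
        (Or.inl (Coprime.isSolvable_zpowers k)), ← hV, Subgroup.commutator_eq_bot_iff_le_centralizer,
        SigmaDisjoint.centralizer_zpowers, ← hVa, Subgroup.zpowers_le]
      exact Subgroup.mem_centralizer_singleton_iff.2 hc.symm.eq
    -- an invariant Sylow `s`-subgroup
    obtain ⟨W, hW⟩ := Hall.exists_isPiHallOf {q : ℕ | q ≠ p} E
    have hWcop : (Nat.card W).Coprime (W.relIndex E) := Nat.coprime_of_dvd fun q hq h1 h2 =>
      hW.2.2 q hq (hW.2.1 q hq h1) h2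
    have hdvdW : ∀ q : ℕ, q.Prime → q ≠ p → q ∣ Nat.card E → q ∣ Nat.card W := fun q hq hne hd => by
      rw [← OddFitting.Decomp.card_mul_relIndex hW.1] at hd
      exact (hq.dvd_mul.1 hd).resolve_right (hW.2.2 q hq hne)
    have hDE : ⁅E, E⁆ ≤ E := MaximalBasics.derived_le_self E
    have hDW : ⁅E, E⁆ ≤ W := OddFitting.HallSub.le_of_hall hW.1 hWcop hDE
      (hW.1.trans (Subgroup.le_normalizer.trans (by
        rw [← Subgroup.map_subtype_commutator]
        exact Balance.le_normalizer_map_characteristic _)))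
      fun q hq hd => hdvdW q hq (fun e => hτ.2.2.2.1 (e ▸ hd.trans
        (Subgroup.card_dvd_of_le (Subgroup.commutator_mono hE.1 hE.1))))
        (hd.trans (Subgroup.card_dvd_of_le hDE))
    have hEW : E ≤ Subgroup.normalizer (W : Set G) := fun e he =>
      Subgroup.mem_normalizer_fintype fun w hw => by
        rw [show e * w * e⁻¹ = e * w * e⁻¹ * w⁻¹ * w by group]
        exact mul_mem (hDW (Subgroup.commutator_mem_commutator he (hW.1 hw))) hw
    have hBW : B ≤ W := OddFitting.HallSub.le_of_hall hW.1 hWcop hBE (hW.1.trans hEB)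
      fun q hq hd => hdvdW q hq
        (by rw [Hall.prime_dvd_pgroup hs hq hB.isPGroup hd]; exact hsp)
        (hd.trans (Subgroup.card_dvd_of_le hBE))
    obtain ⟨T, hT, hkT, hBT⟩ := Hall.Coprime.exists_invariant_ge (A := Subgroup.zpowers k)
      (hkn.trans hEW) (Nat.coprime_of_dvd fun q hq h1 h2 => hW.2.1 q hq h2 (hcard q hq h1))
      (Coprime.isSolvable_of_le hW.1) ({s} : Set ℕ) hBW (Subgroup.zpowers_le.2 hkB)
      fun q hq hd => Hall.prime_dvd_pgroup hs hq hB.isPGroup hd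
    have hTs : IsPGroup s T := IsPGroup.of_card (Nat.eq_prime_pow_of_unique_prime_dvd
      Nat.card_pos.ne' fun {q} hq hd => hT.2.1 q hq hd)
    obtain ⟨S, hS⟩ := OddFitting.Decomp.exists_sylow_eq (hT.1.trans hW.1) hTs (by
      rw [← Subgroup.relIndex_mul_relIndex T W E hT.1 hW.1, hs.dvd_mul, not_or]
      exact ⟨hT.2.2 s hs rfl, hW.2.2 s hs hsp⟩)
    refine ⟨S, hS ▸ ?_⟩
    haveI : IsMulCommutative T := comm_of_pgroup hG hH hsσ ((hT.1.trans hW.1).trans hE.1) hTs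
    rw [← SigmaDisjoint.centralizer_zpowers k, Subgroup.le_centralizer_iff]
    refine Coprime.le_centralizer_of_prime_order hkT ?_ fun v hv hvp a ha => ?_
    · exact Nat.coprime_of_dvd fun q hq h1 h2 => hsp
        ((hT.2.1 q hq h2 : q = s).symm.trans (hcard q hq h1))
    · have hvs : orderOf v = s :=
        Hall.prime_dvd_pgroup hs hvp hTs (dvd_card_of_mem hv dvd_rfl)
      have hvB : v ∈ B := OddTau.Context.le_of_card_prime hB
        (Subgroup.zpowers_le.2 (hE.1 (hW.1 (hT.1 hv))))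
        (Subgroup.zpowers_le.2 (hEB (hW.1 (hT.1 hv)))) (by rw [Nat.card_zpowers, hvs])
        (Subgroup.mem_zpowers v)
      obtain ⟨i, rfl⟩ := ha
      exact ((show Commute v k from
        Subgroup.mem_centralizer_singleton_iff.1 (hBk hvB)).zpow_right i).symm.eq

/-- BG 14.12. -/
theorem sylow_normalizer (h : Hyp G) (hM : IsCoatom M) (hKU : Cfsg.IsSigmaDecomposition M K U)
    (hK1 : K ≠ ⊥) (hU1 : U ≠ ⊥) (hP : IsPartner M K N) {r : ℕ} [Fact r.Prime]
    (hr : r ∣ Nat.card U) (R : Sylow r U) (hH : IsCoatom H)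
    (hNR : Subgroup.normalizer (((R : Subgroup U).map U.subtype : Subgroup G) : Set G) ≤ H) :
    Cfsg.kappa H = ∅ ∧ U ≤ Cfsg.sigmaCore H ∧ M ⊓ H = U ⊔ K ∧
      ¬ H ⊓ Subgroup.normalizer (U : Set G) ≤ M ∧
      K ≤ Cfsg.fittingOf (H ⊓ N) ∧ Cfsg.IsComplIn (H ⊓ N) (Cfsg.sigmaCore H) H := by
  have hG := h.min
  have P := Pair.of hM hKU.hall hK1
  have F := exists_factors h hM hKU hK1 hU1
  obtain ⟨hUH, hKH⟩ := F.mem_H hNR
  obtain ⟨-, hHM, hHN⟩ := F.sigma_of_normalizer h P hP hr R hH hNR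
  obtain ⟨hκ, hUσ, hnc⟩ := F.kappa_empty h P hP hr R hH hNR
  obtain ⟨k, hk, hk1⟩ := (Subgroup.bot_or_exists_ne_one K).resolve_left hK1
  have hp := card_prime_of_not_isP1 h P F.notP1
  haveI := Fact.mk hp
  have hkp : orderOf k = Nat.card K :=
    ((Nat.dvd_prime hp).1 (Subgroup.orderOf_dvd_natCard K hk)).resolve_left
      fun e => hk1 (orderOf_eq_one_iff.1 e)
  obtain ⟨hpH, hfix⟩ := hP.fixed_free h P hp hk hkp hH hHN (hKH hk) hnc
  have hKσ : K ⊓ Cfsg.sigmaCore H = ⊥ := (Subgroup.eq_bot_iff_forall _).2 fun x hx => by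
    by_contra hx1
    obtain ⟨q, hq, hd⟩ := Nat.exists_prime_and_dvd fun e => hx1 (orderOf_eq_one_iff.1 e)
    exact hpH ((Nat.prime_dvd_prime_iff_eq hq hp).1 (dvd_card_of_mem hx.1 hd) ▸
      mem_sigma_of_mem hx.2 hq hd)
  have hnil : Group.IsNilpotent (Cfsg.sigmaCore H) := by
    have hpH' : Nat.card K ∣ Nat.card H := Subgroup.card_dvd_of_le hKH
    exact (Cfsg.Agent.S1429.result hG H hH
      (fun h1 => by have := h1 _ hp hpH' hpH; rw [hκ] at this; exact this)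
      (Nat.card K) hpH' (by simp [hpH, hκ]) (Classical.arbitrary _)).2.2
  have hdisj : ∀ {L : Subgroup G}, IsCoatom L → (∀ g : G, H ≠ L.map (MulAut.conj g).toMonoidHom) →
      Cfsg.sigmaCore L ⊓ Cfsg.sigmaCore H = ⊥ := fun hL hnc' =>
    Basic.inf_eq_bot_of_coprime (Nat.coprime_of_dvd fun q hq h1 h2 => by
      obtain ⟨g, hg⟩ := h.conj_of_sigma hL hH (OddTau.Basic.mem_sigma_of_dvd hq h1)
        (OddTau.Basic.mem_sigma_of_dvd hq h2)
      exact hnc' g hg)
  have hMH : M ⊓ H = U ⊔ K := by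
    refine le_antisymm (fun d hd => ?_) (sup_le (le_inf F.hall.1 hUH) (le_inf hKU.hall.1 hKH))
    obtain ⟨a, ha, b, hb, rfl⟩ := hKU.compl.2.2.2 d hd.1
    rw [← SetLike.mem_coe, Subgroup.coe_mul_of_left_le_normalizer_right K _
      (hKU.hall.1.trans (OddTau.Basic.le_normalizer_sigmaCore M))] at hb
    obtain ⟨c, hc, t, ht, rfl⟩ := Set.mem_mul.1 hb
    have htH : t ∈ H := (H.mul_mem_cancel_left (hKH hc)).1 ((H.mul_mem_cancel_left (hUH ha)).1 hd.2)
    have ht1 : t ∈ Cfsg.sigmaCore M ⊓ Subgroup.centralizer (U : Set G) := by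
      refine ⟨ht, Subgroup.mem_centralizer_iff.2 fun u hu => ?_⟩
      refine commutatorElement_eq_one_iff_mul_comm.1 (Subgroup.mem_bot.1 ?_)
      rw [← hdisj hM hnc]
      refine ⟨?_, ?_⟩
      · rw [commutatorElement_def]
        exact (Cfsg.sigmaCore M).mul_mem ((Subgroup.mem_normalizer_iff.1
          (OddTau.Basic.le_normalizer_sigmaCore M (F.hall.1 hu)) t).1 ht)
          ((Cfsg.sigmaCore M).inv_mem ht)
      · rw [commutatorElement_def, show u * t * u⁻¹ * t⁻¹ = u * (t * u⁻¹ * t⁻¹) by group]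
        exact (Cfsg.sigmaCore H).mul_mem (hUσ hu) ((Subgroup.mem_normalizer_iff.1
          (OddTau.Basic.le_normalizer_sigmaCore H htH) u⁻¹).1
            ((Cfsg.sigmaCore H).inv_mem (hUσ hu)))
    rw [F.fix, Subgroup.mem_bot] at ht1
    rw [ht1, mul_one]
    exact mul_mem (Subgroup.mem_sup_left ha) (Subgroup.mem_sup_right hc)
  refine ⟨hκ, hUσ, hMH, fun hle => ?_, ?_⟩
  · by_cases hUeq : U = Cfsg.sigmaCore H
    · have hHM' : H ≤ M :=
        le_trans (le_inf le_rfl (hUeq ▸ OddTau.Basic.le_normalizer_sigmaCore H)) hle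
      exact hHM ((hH.le_iff.1 hHM').resolve_left hM.1).symm
    haveI := hnil
    have hlt : U.subgroupOf (Cfsg.sigmaCore H) < ⊤ := lt_top_iff_ne_top.2 fun e =>
      hUeq (le_antisymm hUσ (Subgroup.subgroupOf_eq_top.1 e))
    obtain ⟨x, hx, hxU⟩ :=
      SetLike.exists_of_lt (Group.normalizerCondition_of_isNilpotent _ hlt)
    have hxN : (x : G) ∈ Subgroup.normalizer (U : Set G) := by
      refine Subgroup.mem_normalizer_fintype fun y hy => ?_
      exact Subgroup.mem_subgroupOf.1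
        ((Subgroup.mem_normalizer_iff.1 hx ⟨y, hUσ hy⟩).1 (Subgroup.mem_subgroupOf.2 hy))
    have hxH : (x : G) ∈ H := OddTau.Basic.sigmaCore_le H x.2
    have hx' : (x : G) ∈ U ⊔ K := hMH ▸ ⟨hle ⟨hxH, hxN⟩, hxH⟩
    rw [← SetLike.mem_coe, Subgroup.coe_mul_of_right_le_normalizer_left U K hKU.normal] at hx'
    obtain ⟨u, hu, c, hc, e⟩ := Set.mem_mul.1 hx'
    have hc1 : c ∈ K ⊓ Cfsg.sigmaCore H :=
      ⟨hc, ((Cfsg.sigmaCore H).mul_mem_cancel_left (hUσ hu)).1 (e ▸ x.2)⟩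
    rw [hKσ, Subgroup.mem_bot] at hc1
    rw [hc1, mul_one] at e
    exact hxU (Subgroup.mem_subgroupOf.2 (e ▸ hu))
  obtain ⟨E, hE, hKE⟩ := BG14.TauTwoSigma.exists_compl_ge hG hH hKH fun q hq hd =>
    (Nat.prime_dvd_prime_iff_eq hq hp).1 hd ▸ hpH
  obtain ⟨hEN, hKF⟩ := F.compl_le h P hP hH hHN hκ hnc hUσ hnil hKH hE hKE
  have hncN : ∀ g : G, H ≠ N.map (MulAut.conj g).toMonoidHom := fun g e =>
    hHN (hP.eq_of_conj_mem h P hk hk1 e (hKH hk))
  have heq : H ⊓ N = E := by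
    refine le_antisymm (fun y hy => ?_) (le_inf hE.1 hEN)
    obtain ⟨e, he, t, ht, rfl⟩ := hE.2.2.2 y hy.1
    have htN : t ∈ N := (N.mul_mem_cancel_left (hEN he)).1 hy.2
    have ht1 : t ∈ Cfsg.sigmaCore H ⊓ Subgroup.centralizer ({k} : Set G) := by
      refine ⟨ht, Subgroup.mem_centralizer_singleton_iff.2
        (commutatorElement_eq_one_iff_mul_comm.1 (Subgroup.mem_bot.1 ?_))⟩
      rw [← hdisj hP.max hncN]
      refine ⟨?_, ?_⟩
      · rw [commutatorElement_def]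
        exact (Cfsg.sigmaCore N).mul_mem ((Subgroup.mem_normalizer_iff.1
          (OddTau.Basic.le_normalizer_sigmaCore N htN) k).1 (hP.eq.le hk).1)
          ((Cfsg.sigmaCore N).inv_mem (hP.eq.le hk).1)
      · rw [commutatorElement_def, show t * k * t⁻¹ * k⁻¹ = t * (k * t⁻¹ * k⁻¹) by group]
        exact (Cfsg.sigmaCore H).mul_mem ht ((Subgroup.mem_normalizer_iff.1
          (OddTau.Basic.le_normalizer_sigmaCore H (hKH hk)) t⁻¹).1
            ((Cfsg.sigmaCore H).inv_mem ht))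
    rw [hfix, Subgroup.mem_bot] at ht1
    rwa [ht1, mul_one]
  rw [heq]
  exact ⟨hKF, hE⟩

/-- BG 14.12: `N(U) ⊄ M` for `M` of type `P`. -/
theorem normalizer_U_not_le (h : Hyp G) (hM : IsCoatom M) (hKU : Cfsg.IsSigmaDecomposition M K U)
    (hK1 : K ≠ ⊥) : ¬ Subgroup.normalizer (U : Set G) ≤ M := by
  by_cases hU1 : U = ⊥
  · intro hle
    rw [hU1, Subgroup.normalizer_eq_top] at hle
    exact hM.1 (top_le_iff.1 hle)
  have P := Pair.of hM hKU.hall hK1
  obtain ⟨N, hP, -⟩ := exists_partner h P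
  obtain ⟨r, hr, hd⟩ := Nat.exists_prime_and_dvd (mt Subgroup.card_eq_one.1 hU1)
  haveI := Fact.mk hr
  obtain ⟨R⟩ : Nonempty (Sylow r U) := inferInstance
  obtain ⟨H, hH, hNR⟩ := exists_coatom_ge h.min (normalizer_ne_top h.min
    (fun e => R.ne_bot_of_dvd_card hd ((Subgroup.map_eq_bot_iff_of_injective _
      U.subtype_injective).1 e)) (pgroup_ne_top h.min (R.2.map U.subtype)))
  exact fun hle => (sylow_normalizer h hM hKU hK1 hU1 hP hd R hH hNR).2.2.2.1
    (inf_le_right.trans hle)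

end Cfsg.Agent.Lib.OddOrder.Partner
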