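import Cfsg.Agent.Lib.OddOrder.Partner.Counting
import Cfsg.Agent.S1420
import Cfsg.Agent.S1423
import Cfsg.Agent.S1426
import Cfsg.Agent.S1439
import Cfsg.Agent.Lib.OddFitting.HallSub

/-!
# BG 14.7: consequences of the existence of the partner

`K` and `K*` are cyclic, `M ∩ M* = Z`, the centralizers of the elements of `Z`, the TI-set
`Ẑ = Z - (K ∪ K*)` and the count of its conjugates, `κ(M) = τ₁(M)`, and the consequences for
maximal subgroups of type `P₂`.
-/

set_option autoImplicit false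
set_option linter.style.haveILetI false
set_option linter.unusedSectionVars false

open scoped Pointwise commutatorElement

namespace Cfsg.Agent.Lib.OddOrder.Partner

open Cfsg.Agent.Lib.OddOrder Cfsg.Agent.Lib.OddOrder.MinSimple

universe u

variable {G : Type u} [Group G] [Finite G] {M N N' K U Z L K' : Subgroup G}

/-- `Ẑ = Z - (K ∪ K*)`. -/
abbrev hat (M K : Subgroup G) : Set G :=
  (↑(K ⊔ star M K) : Set G) \ ((K : Set G) ∪ ↑(star M K))

theorem IsPartner.pair (h : Hyp G) (P : Pair Z M K) (hP : IsPartner M K N) :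
    Pair Z N (star M K) :=
  ⟨hP.max, hP.hall, h.star_ne_bot P.max P.hall P.ne, by rw [← hP.eq, sup_comm]; exact P.eq⟩

theorem IsPartner.pair' (h : Hyp G) (hM : IsCoatom M) (hK : Cfsg.IsPiHallOf (Cfsg.kappa M) K M)
    (hK1 : K ≠ ⊥) (hP : IsPartner M K N) : Pair (K ⊔ star M K) N (star M K) :=
  hP.pair h (Pair.of hM hK hK1)

theorem IsPartner.symm (P : Pair Z M K) (hP : IsPartner M K N) : IsPartner N (star M K) M :=
  ⟨P.max, by rw [← hP.eq], hP.eq ▸ P.hall⟩

theorem IsPartner.ne (P : Pair Z M K) (hP : IsPartner M K N) : N ≠ M := by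
  rintro rfl
  refine P.ne (le_bot_iff.1 ?_)
  rw [← OddFitting.Decomp.K_inf_sigma P.hall]
  exact le_inf le_rfl (hP.eq.le.trans inf_le_left)

theorem IsPartner.eq_or (h : Hyp G) (P : Pair Z M K) (hP : IsPartner M K N) {L K' : Subgroup G}
    (P' : Pair Z L K') : L = M ∨ L = N := by
  obtain ⟨N₀, -, -, -, htwo, -⟩ := exists_partner h P
  rcases htwo L K' P' with e | e
  · exact Or.inl e
  · exact Or.inr (e.trans ((htwo N _ (hP.pair h P)).resolve_left (hP.ne P)).symm)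

theorem IsPartner.unique (h : Hyp G) (P : Pair Z M K) (hP : IsPartner M K N)
    (hP' : IsPartner M K N') : N' = N :=
  (hP.eq_or h P (hP'.pair h P)).resolve_left (hP'.ne P)

theorem IsPartner.not_isP1 (h : Hyp G) (P : Pair Z M K) (hP : IsPartner M K N) :
    ¬ IsP1 M ∨ ¬ IsP1 N := by
  obtain ⟨N₀, hP₀, -, -, -, hor⟩ := exists_partner h P
  rwa [hP.unique h P hP₀] at hor

theorem IsPartner.sigma_disjoint (h : Hyp G) (P : Pair Z M K) (hP : IsPartner M K N) {q : ℕ}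
    (hq : q ∈ Cfsg.sigma M) : q ∉ Cfsg.sigma N :=
  P.sigma_disjoint h (hP.pair h P) (hP.ne P) hq

theorem IsPartner.not_conj (h : Hyp G) (P : Pair Z M K) (hP : IsPartner M K N) (g : G) :
    N ≠ M.map (MulAut.conj g).toMonoidHom := fun e =>
  hP.ne P (P.eq_of_conj h (hP.pair h P) e)

/-- BG 14.7: `N(X) ≤ M*` for `X ≤ K` of prime order. -/
theorem IsPartner.normalizer_le (h : Hyp G) (P : Pair Z M K) (hP : IsPartner M K N)
    {X : Subgroup G} (hXK : X ≤ K) (hXp : (Nat.card X).Prime) :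
    Subgroup.normalizer (X : Set G) ≤ N := by
  haveI := Fact.mk hXp
  have hX1 : X ≠ ⊥ := fun e => hXp.ne_one (by rw [e, Subgroup.card_bot])
  obtain ⟨L, hL, hXL⟩ := exists_coatom_ge h.min (normalizer_ne_top h.min hX1
    (pgroup_ne_top h.min (IsPGroup.of_card (p := Nat.card X) (n := 1) (pow_one _).symm)))
  obtain ⟨-, hLM, K₂, P'⟩ := exists_pair h P hXK hXp hL hXL
  rwa [(hP.eq_or h P P').resolve_left hLM] at hXL

/-- BG 14.7: `C(x) ≤ M*` for `x ∈ K - 1`. -/
theorem IsPartner.centralizer_le (h : Hyp G) (P : Pair Z M K) (hP : IsPartner M K N) {x : G}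
    (hx : x ∈ K) (hx1 : x ≠ 1) : Subgroup.centralizer ({x} : Set G) ≤ N := by
  obtain ⟨p, hp, b, hb, hbo⟩ := exists_prime_pow hx1
  intro c hc
  refine hP.normalizer_le h P (Subgroup.zpowers_le.2 (Subgroup.zpowers_le.2 hx hb))
    (by rw [Nat.card_zpowers, hbo]; exact hp) ?_
  refine BG14.Support.centralizer_le_normalizer_zpowers b
    (Subgroup.mem_centralizer_singleton_iff.2 ?_)
  obtain ⟨i, rfl⟩ := hb
  exact ((show Commute c x from Subgroup.mem_centralizer_singleton_iff.1 hc).zpow_right i).eq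

/-- The hall complement of `M_σ` is `K` when `M` is of type `P₁`. -/
theorem Hyp.compl_of_isP1 (h : Hyp G) (hM : IsCoatom M) (hK : Cfsg.IsPiHallOf (Cfsg.kappa M) K M)
    (h1 : IsP1 M) : Cfsg.IsComplIn K (Cfsg.sigmaCore M) M := by
  refine OddFitting.CentralizerHall.compl_of_hall h.min hM
    ⟨hK.1, fun q hq hd => (hK.2.1 q hq hd).2.2.1, fun q hq hσ hd => hK.2.2 q hq ?_ hd⟩
  exact h1 q hq (hd.trans (Dvd.intro_left _ (OddFitting.Decomp.card_mul_relIndex hK.1))) hσ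

/-- BG 14.7: `K` is cyclic. -/
theorem isCyclic_hall (h : Hyp G) (hM : IsCoatom M) (hK : Cfsg.IsPiHallOf (Cfsg.kappa M) K M) :
    IsCyclic K := by
  by_cases hK1 : K = ⊥
  · rw [hK1]; infer_instance
  obtain ⟨N, hP, -, P₂, -, hor⟩ := exists_partner h (Pair.of hM hK hK1)
  rcases hor with h1 | h1
  · haveI := Fact.mk (card_prime_of_not_isP1 h (Pair.of hM hK hK1) h1)
    exact isCyclic_of_prime_card rfl
  obtain ⟨-, -, -, -, -, -, hnil⟩ := exists_regular_U h P₂ h1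
  haveI : Group.IsNilpotent K := Cores.isNilpotent_of_le (hP.eq.le.trans inf_le_left) hnil
  refine CyclicSylow.isCyclic_of_sylow_cyclic fun q hq Q => ?_
  haveI := Fact.mk hq
  by_cases hQ1 : (Q : Subgroup K) = ⊥
  · rw [hQ1]; infer_instance
  set Q₁ := (Q : Subgroup K).map K.subtype with hQ₁
  have hqd : q ∣ Nat.card K :=
    (SigmaEmbedding.ne_one_of_pgroup Q.2 hQ1).trans (Subgroup.card_subgroup_dvd_card _)
  obtain ⟨T, hT⟩ := ((Q.2.map K.subtype).comap_subtype (K := M)).exists_le_sylow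
  have hle : Q₁ ≤ (T : Subgroup M).map M.subtype := fun x hx =>
    ⟨⟨x, hK.1 (Subgroup.map_subtype_le _ hx)⟩, hT hx, rfl⟩
  haveI := ((hK.2.1 q hq hqd).2.2.2 T).1
  haveI : IsCyclic ((T : Subgroup M).map M.subtype) :=
    isCyclic_of_surjective ((T : Subgroup M).equivMapOfInjective _ M.subtype_injective).toMonoidHom
      (MulEquiv.surjective _)
  haveI : IsCyclic Q₁ := Subgroup.isCyclic_of_le hle
  exact ((Q : Subgroup K).equivMapOfInjective _ K.subtype_injective).isCyclic.2 (by assumption)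

/-- `Z` is cyclic. -/
theorem isCyclic_sup (h : Hyp G) (P : Pair Z M K) : IsCyclic Z := by
  obtain ⟨N, -, -, P₂, -, -⟩ := exists_partner h P
  obtain ⟨⟨k, hk⟩, hkg⟩ := (isCyclic_hall h P.max P.hall).exists_generator
  obtain ⟨⟨s, hs⟩, hsg⟩ := (isCyclic_hall h P₂.max P₂.hall).exists_generator
  obtain ⟨hkz, hsz⟩ := factor_zpowers P.hall hk hs
  have e : Z = Subgroup.zpowers (k * s) := by
    refine le_antisymm (P.eq ▸ sup_le (fun x hx => ?_) fun x hx => ?_)
      (Subgroup.zpowers_le.2 (mul_mem (P.K_le hk) (P.star_le hs)))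
    · obtain ⟨i, hi⟩ := hkg ⟨x, hx⟩
      have e : k ^ i = x := congrArg Subtype.val hi
      rw [← e]
      exact zpow_mem hkz i
    · obtain ⟨i, hi⟩ := hsg ⟨x, hx⟩
      have e : s ^ i = x := congrArg Subtype.val hi
      rw [← e]
      exact zpow_mem hsz i
  rw [e]
  infer_instance

theorem commute_of_mem (h : Hyp G) (P : Pair Z M K) {a b : G} (ha : a ∈ Z) (hb : b ∈ Z) :
    Commute a b := by
  haveI := isCyclic_sup h P
  haveI : IsMulCommutative Z := IsCyclic.isMulCommutative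
  exact congrArg Subtype.val (mul_comm' (⟨a, ha⟩ : Z) ⟨b, hb⟩)

/-- `C_M(x) = Z` for `x ∈ K - 1`. -/
theorem inf_centralizer_eq (h : Hyp G) (P : Pair Z M K) {x : G} (hx : x ∈ K) (hx1 : x ≠ 1) :
    M ⊓ Subgroup.centralizer ({x} : Set G) = Z := by
  refine le_antisymm ?_ fun z hz => ⟨P.le hz, Subgroup.mem_centralizer_singleton_iff.2
    (commute_of_mem h P hz (P.K_le hx)).eq⟩
  obtain ⟨p, hp, b, hb, hbo⟩ := exists_prime_pow hx1
  have hbK := Subgroup.zpowers_le.2 hx hb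
  have hb' := ((h.r1430 M P.max K P.hall P.ne).2.2 (Subgroup.zpowers b)
    (Subgroup.zpowers_le.2 hbK) (by rw [Nat.card_zpowers, hbo]; exact hp)).1
  rw [P.eq, ← hb']
  refine inf_le_inf_left _ (le_trans ?_ (BG14.Support.centralizer_le_normalizer_zpowers b))
  intro c hc
  obtain ⟨i, rfl⟩ := hb
  exact Subgroup.mem_centralizer_singleton_iff.2
    ((show Commute c x from Subgroup.mem_centralizer_singleton_iff.1 hc).zpow_right i).eq

/-- BG 14.7: `M ∩ M* = Z`. -/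
theorem IsPartner.inf_eq (h : Hyp G) (P : Pair Z M K) (hP : IsPartner M K N) : M ⊓ N = Z := by
  have P₂ := hP.pair h P
  refine le_antisymm (fun d hd => ?_) (le_inf P.le P₂.le)
  obtain ⟨x, hx, hx1⟩ := (Subgroup.bot_or_exists_ne_one K).resolve_left P.ne
  obtain ⟨hKn, hNK, -⟩ : (M ⊓ N ⊓ Cfsg.sigmaCore N ≤ K) ∧
      (M ⊓ Subgroup.normalizer (K : Set G) = Z) ∧ True := by
    refine ⟨fun c hc => ?_, ?_, trivial⟩
    · obtain ⟨y, hy, hy1⟩ := (Subgroup.bot_or_exists_ne_one _).resolve_left P₂.ne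
      have hc1 : ⁅c, y⁆ ∈ Cfsg.sigmaCore M ⊓ Cfsg.sigmaCore N := by
        rw [commutatorElement_def]
        refine ⟨?_, ?_⟩
        · exact (Cfsg.sigmaCore M).mul_mem ((Subgroup.mem_normalizer_iff.1
            (OddTau.Basic.le_normalizer_sigmaCore M hc.1.1) y).1 hy.1)
            ((Cfsg.sigmaCore M).inv_mem hy.1)
        · rw [show c * y * c⁻¹ * y⁻¹ = c * (y * c⁻¹ * y⁻¹) by group]
          exact (Cfsg.sigmaCore N).mul_mem hc.2 ((Subgroup.mem_normalizer_iff.1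
            (OddTau.Basic.le_normalizer_sigmaCore N (P₂.le (P.star_le hy))) c⁻¹).1
              ((Cfsg.sigmaCore N).inv_mem hc.2))
      rw [Basic.inf_eq_bot_of_coprime (Nat.coprime_of_dvd fun q hq h1 h2 =>
          hP.sigma_disjoint h P (OddTau.Basic.mem_sigma_of_dvd hq h1)
            (OddTau.Basic.mem_sigma_of_dvd hq h2)), Subgroup.mem_bot] at hc1
      rw [hP.eq]
      exact h.fixed hP.max hP.hall hy hy1 hc.2 (commutatorElement_eq_one_iff_mul_comm.1 hc1)
    · obtain ⟨q, hq, b, hb, hbo⟩ := exists_prime_pow hx1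
      rw [P.eq]
      exact ((h.r1430 M P.max K P.hall P.ne).2.2 (Subgroup.zpowers b)
        (Subgroup.zpowers_le.2 (Subgroup.zpowers_le.2 hx hb))
        (by rw [Nat.card_zpowers, hbo]; exact hq)).2.1
  rw [← hNK]
  refine ⟨hd.1, Subgroup.mem_normalizer_fintype fun k hk => hKn ?_⟩
  exact ⟨(M ⊓ N).mul_mem ((M ⊓ N).mul_mem hd ⟨P.hall.1 hk, P₂.le (P.K_le hk)⟩)
    ((M ⊓ N).inv_mem hd),
    (Subgroup.mem_normalizer_iff.1 (OddTau.Basic.le_normalizer_sigmaCore N hd.2) k).1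
      (hP.eq.le hk).1⟩

/-- BG 14.7: `C_G(xy) = Z` for `x ∈ K - 1`, `y ∈ K* - 1`. -/
theorem IsPartner.centralizer_mul (h : Hyp G) (P : Pair Z M K) (hP : IsPartner M K N) {x y : G}
    (hx : x ∈ K) (hx1 : x ≠ 1) (hy : y ∈ star M K) (hy1 : y ≠ 1) :
    Subgroup.centralizer ({x * y} : Set G) = Z := by
  obtain ⟨hxz, hyz⟩ := factor_zpowers P.hall hx hy
  have hxy : x * y ∈ Z := mul_mem (P.K_le hx) (P.star_le hy)
  refine le_antisymm (fun c hc => ?_) fun z hz =>
    Subgroup.mem_centralizer_singleton_iff.2 (commute_of_mem h P hz hxy).eq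
  have key : ∀ a ∈ Subgroup.zpowers (x * y), c ∈ Subgroup.centralizer ({a} : Set G) := fun a ha => by
    obtain ⟨i, rfl⟩ := ha
    exact Subgroup.mem_centralizer_singleton_iff.2
      ((show Commute c (x * y) from Subgroup.mem_centralizer_singleton_iff.1 hc).zpow_right i).eq
  rw [← hP.inf_eq h P]
  exact ⟨(hP.symm P).centralizer_le h (hP.pair h P) hy hy1 (key y hyz),
    hP.centralizer_le h P hx hx1 (key x hxz)⟩

/-- BG 14.7: `K*` is a Hall `σ(M)`-subgroup of `M*`. -/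
theorem IsPartner.hall_sigma (h : Hyp G) (P : Pair Z M K) (hP : IsPartner M K N) :
    Cfsg.IsPiHallOf (Cfsg.sigma M) (star M K) N := by
  have hσ : ∀ q : ℕ, q.Prime → q ∣ Nat.card (star M K) → q ∈ Cfsg.sigma M := fun q hq hd =>
    OddTau.Basic.mem_sigma_of_dvd hq (hd.trans (Subgroup.card_dvd_of_le inf_le_left))
  haveI := h.solvable hP.max
  obtain ⟨H, hH, hle⟩ :=
    OddFitting.CentralizerHall.exists_hall_ge (M := N) hP.hall.1 hσ
  suffices H = star M K by rwa [← this]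
  refine le_antisymm (fun x hx => ?_) hle
  have hxσ : x ∈ Cfsg.sigmaCore M := (h.r1431 M P.max K P.hall P.ne).2.2.2 H hH.2.1
    (by rw [inf_eq_right.2 hle]; exact h.star_ne_bot P.max P.hall P.ne) hx
  refine P.mem_star_of_sigmaCore ?_ hxσ
  rw [← hP.inf_eq h P]
  exact ⟨OddTau.Basic.sigmaCore_le M hxσ, hH.1 hx⟩

/-! ### `Ẑ` -/

theorem mem_hat {z : G} : z ∈ hat M K ↔ z ∈ K ⊔ star M K ∧ z ∉ K ∧ z ∉ star M K := by
  simp only [Set.mem_sdiff, Set.mem_union, SetLike.mem_coe, not_or]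

theorem mul_mem_hat (hK : Cfsg.IsPiHallOf (Cfsg.kappa M) K M) {x y : G} (hx : x ∈ K) (hx1 : x ≠ 1)
    (hy : y ∈ star M K) (hy1 : y ≠ 1) : x * y ∈ hat M K := by
  have hd := Basic.inf_eq_bot_of_coprime (coprime_kappa_star hK)
  refine mem_hat.2 ⟨mul_mem (Subgroup.mem_sup_left hx) (Subgroup.mem_sup_right hy), fun h1 => hy1 ?_,
    fun h1 => hx1 ?_⟩
  · exact Subgroup.mem_bot.1 (hd ▸ ⟨(mul_mem_cancel_left hx).1 h1, hy⟩)
  · exact Subgroup.mem_bot.1 (hd ▸ ⟨hx, (mul_mem_cancel_right hy).1 h1⟩)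

/-- The elements of `Ẑ`. -/
theorem exists_of_mem_hat (hK : Cfsg.IsPiHallOf (Cfsg.kappa M) K M) {z : G} (hz : z ∈ hat M K) :
    ∃ x ∈ K, ∃ y ∈ star M K, x ≠ 1 ∧ y ≠ 1 ∧ z = x * y ∧ x ∈ Subgroup.zpowers z ∧
      y ∈ Subgroup.zpowers z := by
  obtain ⟨h1, h2, h3⟩ := mem_hat.1 hz
  obtain ⟨x, hx, y, hy, rfl, -⟩ := exists_factor h1
  refine ⟨x, hx, y, hy, fun e => h3 ?_, fun e => h2 ?_, rfl, factor_zpowers hK hx hy⟩
  · rwa [e, one_mul]
  · rwa [e, mul_one]

theorem hat_eq_outer (h : Hyp G) (P : Pair Z M K) : hat M K = outer Z := by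
  obtain ⟨N, hP, -, P₂, htwo, -⟩ := exists_partner h P
  ext z
  rw [mem_hat, ← P.eq]
  constructor
  · rintro ⟨hz, h2, h3⟩
    refine ⟨hz, fun L K' P' hm => ?_⟩
    rcases htwo L K' P' with rfl | rfl
    · exact h3 (P.mem_star_of_sigmaCore hz hm.1)
    · exact h2 (hP.eq ▸ P₂.mem_star_of_sigmaCore hz hm.1)
  · rintro ⟨hz, hout⟩
    exact ⟨hz, fun h2 => hout N _ P₂ (hP.eq ▸ h2), hout M K P⟩

theorem mem_of_conj_hat (h : Hyp G) (P : Pair Z M K) {z g : G} (hz : z ∈ hat M K)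
    (hg : g * z * g⁻¹ ∈ Z) : g ∈ Z :=
  mem_of_conj_outer h P (hat_eq_outer h P ▸ hz) hg

theorem conj_hat (h : Hyp G) (P : Pair Z M K) {z g : G} (hz : z ∈ hat M K) (hg : g ∈ Z) :
    g * z * g⁻¹ = z := by
  rw [(commute_of_mem h P hg (P.eq ▸ (mem_hat.1 hz).1)).eq, mul_inv_cancel_right]

theorem hat_nonempty (h : Hyp G) (P : Pair Z M K) : ∃ z, z ∈ hat M K := by
  obtain ⟨x, hx, hx1⟩ := (Subgroup.bot_or_exists_ne_one K).resolve_left P.ne
  obtain ⟨y, hy, hy1⟩ :=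
    (Subgroup.bot_or_exists_ne_one _).resolve_left (h.star_ne_bot P.max P.hall P.ne)
  exact ⟨x * y, mul_mem_hat P.hall hx hx1 hy hy1⟩

/-- BG 14.7 (e): `Ẑ` is a TI-set with normalizer `Z`. -/
theorem hat_TI (h : Hyp G) (P : Pair Z M K) :
    Cfsg.IsTISubset (hat M K) ∧ Subgroup.normalizer (hat M K) = Z := by
  have hN : Subgroup.normalizer (hat M K) = Z := by
    refine le_antisymm (fun g hg => ?_) fun g hg => ?_
    · obtain ⟨z, hz⟩ := hat_nonempty h P
      exact mem_of_conj_hat h P hz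
        (P.eq ▸ (mem_hat.1 ((Subgroup.mem_set_normalizer_iff.1 hg z).1 hz)).1)
    · refine Subgroup.mem_set_normalizer_iff.2 fun z => ⟨fun hz => (conj_hat h P hz hg).symm ▸ hz,
        fun hz => ?_⟩
      have h1 := conj_hat h P hz (inv_mem hg)
      rw [show g⁻¹ * (g * z * g⁻¹) * g⁻¹⁻¹ = z by group] at h1
      exact h1.symm ▸ hz
  refine ⟨fun g hg x hx hgx => absurd ?_ hg, hN⟩
  rw [hN]
  exact mem_of_conj_hat h P hx (P.eq ▸ (mem_hat.1 hgx).1)

/-- `Ẑ` misses the other conjugates of `M`. -/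
theorem notMem_conj (h : Hyp G) (P : Pair Z M K) {g z : G} (hg : g ∉ M) (hz : z ∈ hat M K) :
    z ∉ M.map (MulAut.conj g).toMonoidHom := fun hmem => by
  obtain ⟨x, -, y, hy, -, hy1, -, -, hyz⟩ := exists_of_mem_hat P.hall hz
  have h1 : y ∈ star M K ⊓ M.map (MulAut.conj g).toMonoidHom :=
    ⟨hy, Subgroup.zpowers_le.2 hmem hyz⟩
  rw [(h.r1431 M P.max K P.hall P.ne).1 g hg] at h1
  exact hy1 (Subgroup.mem_bot.1 h1)

theorem conj_set_eq (S : Set G) :
    {a : G | ∃ g : G, ∃ z ∈ S, a = g * z * g⁻¹} = Dickson.conjClosure S := by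
  ext a
  exact ⟨fun ⟨g, z, hz, e⟩ => ⟨g, z, hz, e.symm⟩, fun ⟨g, z, hz, e⟩ => ⟨g, z, hz, e.symm⟩⟩

theorem ncard_hat (hK : Cfsg.IsPiHallOf (Cfsg.kappa M) K M) :
    (hat M K).ncard + Nat.card K + Nat.card (star M K) =
      Nat.card K * Nat.card (star M K) + 1 := by
  have hsub : (K : Set G) ∪ ↑(star M K) ⊆ ↑(K ⊔ star M K) :=
    Set.union_subset (SetLike.coe_subset_coe.2 le_sup_left) (SetLike.coe_subset_coe.2 le_sup_right)
  have h1 := Set.ncard_sdiff_add_ncard_of_subset hsub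
  have h2 := Set.ncard_union_add_ncard_inter (K : Set G) (star M K : Set G)
  have h3 : ((K : Set G) ∩ ↑(star M K)).ncard = 1 := by
    rw [← Subgroup.coe_inf, Basic.inf_eq_bot_of_coprime (coprime_kappa_star hK), Subgroup.coe_bot,
      Set.ncard_singleton]
  have e : ∀ H : Subgroup G, (H : Set G).ncard = Nat.card H := fun H =>
    (Nat.card_coe_set_eq _).symm
  rw [e, card_sup_star hK] at h1
  rw [e, e, h3] at h2
  show ((↑(K ⊔ star M K) : Set G) \ ((K : Set G) ∪ ↑(star M K))).ncard + _ + _ = _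
  omega

/-- BG 14.7 (g). -/
theorem count_hat (h : Hyp G) (P : Pair Z M K) :
    Nat.card K * Nat.card (star M K) *
        Set.ncard {a : G | ∃ g : G, ∃ z ∈ hat M K, a = g * z * g⁻¹} =
      (Nat.card K * Nat.card (star M K) - Nat.card K - Nat.card (star M K) + 1) * Nat.card G ∧
      Nat.card G < 2 * Set.ncard {a : G | ∃ g : G, ∃ z ∈ hat M K, a = g * z * g⁻¹} := by
  rw [conj_set_eq]
  have h1 := Dickson.ncard_conjClosure (hat M K) Z
    (fun k hk s hs => (conj_hat h P hs hk).symm ▸ hs)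
    (fun g s hs hg => mem_of_conj_hat h P hs (P.eq ▸ (mem_hat.1 hg).1))
  have h2 := ncard_hat P.hall
  rw [P.eq, card_sup_star P.hall] at h1
  obtain ⟨a, ha⟩ := odd_card h.min K
  obtain ⟨b, hb⟩ := odd_card h.min (star M K)
  have ha0 : a ≠ 0 := fun e => P.ne (Subgroup.card_eq_one.1 (by rw [ha, e, mul_zero, zero_add]))
  have hb0 : b ≠ 0 := fun e => h.star_ne_bot P.max P.hall P.ne
    (Subgroup.card_eq_one.1 (by rw [hb, e, mul_zero, zero_add]))
  have hab : a ≠ 1 ∨ b ≠ 1 := by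
    by_contra hc
    rw [not_or, not_not, not_not] at hc
    have := coprime_kappa_star P.hall
    rw [ha, hb, hc.1, hc.2] at this
    norm_num at this
  have hG : 0 < Nat.card G := Nat.card_pos
  rw [ha, hb] at h1 h2 ⊢
  have h3 : (hat M K).ncard = 4 * a * b := by nlinarith
  refine ⟨?_, ?_⟩
  · rw [show (2 * a + 1) * (2 * b + 1) - (2 * a + 1) - (2 * b + 1) + 1 = 4 * a * b by
      have : (2 * a + 1) * (2 * b + 1) = 4 * a * b + 2 * a + 2 * b + 1 := by ring
      have hpos : 0 < 4 * a * b := by positivity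
      omega]
    rw [mul_comm, h1, h3, mul_comm]
  · rw [h3] at h1
    have h4 : (2 * a + 1) * (2 * b + 1) < 2 * (4 * a * b) := by
      rcases hab with hne | hne
      · have : 2 ≤ a := by omega
        have : 1 ≤ b := by omega
        nlinarith
      · have : 2 ≤ b := by omega
        have : 1 ≤ a := by omega
        nlinarith
    by_contra hle
    push Not at hle
    nlinarith [Nat.mul_le_mul_right ((2 * a + 1) * (2 * b + 1)) hle,
      Nat.mul_lt_mul_of_pos_left h4 hG]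

/-- BG 14.7 (h): a maximal subgroup of type `P` is conjugate to `M` or `M*`. -/
theorem IsPartner.conj_of_kappa (h : Hyp G) (P : Pair Z M K) (hP : IsPartner M K N)
    {H : Subgroup G} (hH : IsCoatom H) (hne : (Cfsg.kappa H).Nonempty) :
    ∃ g : G, H = M.map (MulAut.conj g).toMonoidHom ∨ H = N.map (MulAut.conj g).toMonoidHom := by
  obtain ⟨KH, hKH⟩ := h.exists_hall_kappa hH
  have PH := Pair.of hH hKH ((ne_bot_iff_kappa hKH).2 hne)
  set A := {a : G | ∃ g : G, ∃ z ∈ hat H KH, a = g * z * g⁻¹} with hA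
  set B := {a : G | ∃ g : G, ∃ z ∈ hat M K, a = g * z * g⁻¹} with hB
  obtain ⟨a, ha, hb⟩ : (A ∩ B).Nonempty := by
    rw [← Set.ncard_pos]
    have h1 := (count_hat h PH).2
    have h2 := (count_hat h P).2
    have h3 := Set.ncard_union_add_ncard_inter A B
    have h4 : (A ∪ B).ncard ≤ Nat.card G := Set.ncard_univ G ▸ Set.ncard_le_ncard (Set.subset_univ _)
    rw [← hA] at h1
    rw [← hB] at h2
    omega
  obtain ⟨g, z, hz, rfl⟩ := ha
  obtain ⟨g', z', hz', e⟩ := hb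
  obtain ⟨-, -, y, hy, -, hy1, -, -, hyz⟩ := exists_of_mem_hat hKH hz
  obtain ⟨q, hq, hd⟩ := Nat.exists_prime_and_dvd fun e => hy1 (orderOf_eq_one_iff.1 e)
  have hqH := mem_sigma_of_mem hy.1 hq hd
  have hqZ : q ∣ Nat.card Z := by
    refine dvd_card_of_mem (P.eq ▸ (mem_hat.1 hz').1 : z' ∈ Z) ?_
    have e' : orderOf z = orderOf z' := by
      have := congrArg orderOf e
      rwa [show g * z * g⁻¹ = MulAut.conj g z from rfl, show g' * z' * g'⁻¹ = MulAut.conj g' z'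
        from rfl, MulEquiv.orderOf_eq, MulEquiv.orderOf_eq] at this
    exact e' ▸ hd.trans (dvd_of_mem_zpowers hyz)
  rw [P.eq, card_sup_star P.hall] at hqZ
  rcases hq.dvd_mul.1 hqZ with h' | h'
  · obtain ⟨x, hx, hxo⟩ := exists_orderOf hq h'
    obtain ⟨c, hc⟩ := h.conj_of_sigma hP.max hH
      (mem_sigma_of_mem (hP.eq.le hx).1 hq (hxo ▸ dvd_rfl)) hqH
    exact ⟨c, Or.inr hc⟩
  · obtain ⟨c, hc⟩ := h.conj_of_sigma P.max hH
      (OddTau.Basic.mem_sigma_of_dvd hq (h'.trans (Subgroup.card_dvd_of_le inf_le_left))) hqH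
    exact ⟨c, Or.inl hc⟩

/-! ### The standard factorisation -/

theorem exists_decomposition (h : Hyp G) (hM : IsCoatom M)
    (hK : Cfsg.IsPiHallOf (Cfsg.kappa M) K M) (hK1 : K ≠ ⊥) :
    ∃ U : Subgroup G, Cfsg.IsSigmaDecomposition M K U := by
  obtain ⟨U, -, hU, hn, -⟩ := (h.r1430 M hM K hK hK1).2.1
  exact ⟨U, h.decomposition hM hK (isCyclic_hall h hM hK) hU hn⟩

theorem isP1_iff (h : Hyp G) (hM : IsCoatom M) (hKU : Cfsg.IsSigmaDecomposition M K U) :
    IsP1 M ↔ U = ⊥ := by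
  constructor
  · intro h1
    by_contra hU
    obtain ⟨q, hq, hd⟩ := Nat.exists_prime_and_dvd (mt Subgroup.card_eq_one.1 hU)
    obtain ⟨hσ, hκ⟩ := OddFitting.Decomp.U_prime h.min hM hKU hq hd
    exact hκ (h1 q hq (hd.trans (Subgroup.card_dvd_of_le hKU.compl.1)) hσ)
  · rintro rfl q hq hd hσ
    rw [← OddFitting.Decomp.card_eq hKU, Subgroup.card_bot, one_mul] at hd
    exact hKU.hall.2.1 q hq ((hq.dvd_mul.1 hd).resolve_right
      fun h' => hσ (OddTau.Basic.mem_sigma_of_dvd hq h'))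

/-- BG 14.7 (b): `κ(M) ⊆ τ₁(M)`. -/
theorem kappa_subset_tau1 (h : Hyp G) (hM : IsCoatom M) : Cfsg.kappa M ⊆ Cfsg.tau1 M := by
  intro p hp
  obtain ⟨K, hK⟩ := h.exists_hall_kappa hM
  obtain ⟨U, hKU⟩ := exists_decomposition h hM hK ((ne_bot_iff_kappa hK).2 ⟨p, hp⟩)
  refine (BG14.NonKappa.tau13_of_kappa h.min hM hp).resolve_right fun h3 => ?_
  have hd : p ∣ Nat.card ↥(U ⊔ Cfsg.sigmaCore M) :=
    h3.2.2.1.trans (Subgroup.card_dvd_of_le (OddFitting.Decomp.derived_le_U_sup hKU))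
  rcases SigmaSubgroup.relIndex_sup_right_le p hp.1
    (by rwa [sup_comm] at hd : p ∣ Nat.card ↥(Cfsg.sigmaCore M ⊔ U))
    (hKU.compl.1.trans (OddTau.Basic.le_normalizer_sigmaCore M)) with h' | h'
  · exact hp.2.2.1 (OddTau.Basic.mem_sigma_of_dvd hp.1 h')
  · exact (OddFitting.Decomp.U_prime h.min hM hKU hp.1 h').2 hp

theorem kappaTauOne (h : Hyp G) : Interface.BG14.KappaTauOne G := fun _ hM =>
  kappa_subset_tau1 h hM

/-- BG 14.7: `τ₃(M)`-elements act without fixed points on `M_σ`. -/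
theorem tauThreeRegular (h : Hyp G) : Interface.BG14.TauThreeRegular G := by
  intro M hM p hp x hx hxo
  refine BG14.NonKappa.regular_of_not_kappa h.min (Or.inr hp) (fun hκ => ?_) hx hxo
  exact (kappa_subset_tau1 h hM hκ).2.2.2.1 hp.2.2.1

theorem partnerNotConj (h : Hyp G) : Interface.BG14.PartnerNotConj G := by
  intro M K U N hM hKU hK1 hN hKst
  obtain ⟨p, hp, hd⟩ := Nat.exists_prime_and_dvd (mt Subgroup.card_eq_one.1 hK1)
  obtain ⟨x, hx, hxo⟩ := exists_orderOf hp hd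
  have hpN : p ∈ Cfsg.sigma N :=
    mem_sigma_of_mem (hKst.le hx).1 hp (hxo ▸ dvd_rfl)
  have hpM : p ∉ Cfsg.sigma M := not_sigma_of_kappa (hKU.hall.2.1 p hp hd)
  have hnc : ∀ g : G, N ≠ M.map (MulAut.conj g).toMonoidHom := fun g e => by
    rw [e, sigma_conj_eq] at hpN
    exact hpM hpN
  exact ⟨hnc, Set.disjoint_left.2 fun q h1 h2 => by
    obtain ⟨g, hg⟩ := h.conj_of_sigma hM hN h1 h2
    exact hnc g hg⟩

/-- `K` moves every element of the complement of S1430, which so lies in `M'`. -/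
theorem le_derived_of_regular {k : G} (hk : k ∈ M) (hUM : U ≤ M)
    (hn : k ∈ Subgroup.normalizer (U : Set G)) (hreg : U ⊓ Subgroup.centralizer ({k} : Set G) = ⊥) :
    U ≤ ⁅M, M⁆ := by
  let f : U → U := fun u => ⟨(u : G) * k * (u : G)⁻¹ * k⁻¹, by
    rw [show (u : G) * k * (u : G)⁻¹ * k⁻¹ = u * (k * (u : G)⁻¹ * k⁻¹) by group]
    exact mul_mem u.2 ((Subgroup.mem_normalizer_iff.1 hn _).1 (inv_mem u.2))⟩
  have hf : Function.Injective f := fun u v e => by
    have e1 := mul_right_cancel (congrArg Subtype.val e : (u : G) * k * (u : G)⁻¹ * k⁻¹ = _)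
    have h1 : ((v⁻¹ * u : U) : G) ∈ U ⊓ Subgroup.centralizer ({k} : Set G) := by
      refine ⟨(v⁻¹ * u).2, Subgroup.mem_centralizer_singleton_iff.2 ?_⟩
      calc ((v⁻¹ * u : U) : G) * k = (v : G)⁻¹ * ((u : G) * k * (u : G)⁻¹) * u := by
            simp only [Subgroup.coe_mul, Subgroup.coe_inv]; group
        _ = (v : G)⁻¹ * ((v : G) * k * (v : G)⁻¹) * u := by rw [e1]
        _ = k * ((v⁻¹ * u : U) : G) := by simp only [Subgroup.coe_mul, Subgroup.coe_inv]; group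
    rw [hreg, Subgroup.mem_bot] at h1
    exact (inv_mul_eq_one.1 (Subtype.ext h1 : v⁻¹ * u = 1)).symm
  intro x hx
  obtain ⟨u, hu⟩ := (Finite.injective_iff_surjective.1 hf) ⟨x, hx⟩
  rw [← show (u : G) * k * (u : G)⁻¹ * k⁻¹ = x from congrArg Subtype.val hu]
  exact Subgroup.commutator_mem_commutator (hUM u.2) hk

/-- BG 14.7 (b): `κ(M) = τ₁(M)` for `M` of type `P`. -/
theorem kappa_eq_tau1 (h : Hyp G) (P : Pair Z M K) : Cfsg.kappa M = Cfsg.tau1 M := by
  refine Set.Subset.antisymm (kappa_subset_tau1 h P.max) fun q hq => ?_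
  by_contra hκ
  obtain ⟨U, -, hU, hn, hreg⟩ := (h.r1430 M P.max K P.hall P.ne).2.1
  obtain ⟨k, hk, hk1⟩ := (Subgroup.bot_or_exists_ne_one K).resolve_left P.ne
  have hUd := le_derived_of_regular (P.hall.1 hk) hU.1 (hn hk) (hreg k hk hk1)
  refine hq.2.2.2.1 ((Nat.Prime.dvd_mul hq.1).1 ?_ |>.resolve_right
    (hU.2.2 q hq.1 ⟨hq.1, hκ, hq.2.1⟩) |>.trans (Subgroup.card_dvd_of_le hUd))
  rw [OddFitting.Decomp.card_mul_relIndex hU.1]
  exact hq.2.2.1

/-- BG 14.7 (i) `C(X)` lies only in `M` for `X ≤ K*` of prime order. -/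
theorem centralizer_unique (h : Hyp G) (P : Pair Z M K)
    {X : Subgroup G} (hX : X ≤ star M K) (hXp : (Nat.card X).Prime) :
    Subgroup.centralizer (X : Set G) ≤ M ∧
      ∀ L : Subgroup G, IsCoatom L → Subgroup.centralizer (X : Set G) ≤ L → L = M := by
  haveI := Fact.mk hXp
  obtain ⟨x, hx, hxo⟩ := exists_orderOf hXp dvd_rfl
  have hXM : X ≤ M := hX.trans (Partner.star_le M K)
  have hσ := mem_sigma_of_mem (hX hx).1 hXp (hxo ▸ dvd_rfl)
  refine (Cfsg.Agent.S1423.result h.min M P.max (Nat.card X) hσ X hXM rfl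
    (Classical.arbitrary _) ?_).1
  by_cases h1 : IsP1 M
  · exact Or.inr (hX.trans
      (Cfsg.Agent.S1426.result h.min M P.max K (h.compl_of_isP1 P.max P.hall h1)).1)
  · left
    obtain ⟨U, hKU⟩ := exists_decomposition h P.max P.hall P.ne
    rw [← h.sigmaBeta M K U P.max hKU P.ne fun e => h1 ((isP1_iff h P.max hKU).2 e)]
    exact hσ

/-- BG 14.7: for `M` of type `P₁`, `K*` has prime order. -/
theorem card_star_prime (h : Hyp G) (P : Pair Z M K) (h1 : IsP1 M) :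
    (Nat.card (star M K)).Prime := by
  obtain ⟨N, -, -, P₂, -, hor⟩ := exists_partner h P
  exact card_prime_of_not_isP1 h P₂ (hor.resolve_left fun hn => hn h1)

/-- BG 14.7 (j): `F(M)` is a TI-subset for `M` of type `P₂`. -/
theorem fitting_TI (h : Hyp G) (P : Pair Z M K) (h1 : ¬ IsP1 M) :
    Cfsg.IsTISubset (Cfsg.fittingOf M : Set G) ∧ Cfsg.sigmaCore M ≤ Cfsg.fittingOf M := by
  obtain ⟨U, hKU⟩ := exists_decomposition h P.max P.hall P.ne
  have hβ := h.sigmaBeta M K U P.max hKU P.ne fun e => h1 ((isP1_iff h P.max hKU).2 e)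
  obtain ⟨-, -, -, -, -, -, hnil⟩ := exists_regular_U h P h1
  have hσn := OddTau.Basic.le_normalizer_sigmaCore M
  have hσF : Cfsg.sigmaCore M ≤ Cfsg.fittingOf M := by
    haveI : ((Cfsg.sigmaCore M).subgroupOf M).Normal :=
      (Subgroup.normal_subgroupOf_iff_le_normalizer (OddTau.Basic.sigmaCore_le M)).2 hσn
    haveI := hnil
    have h2 := Subgroup.map_mono (f := M.subtype) (Cores.le_fittingSubgroup
      (N := (Cfsg.sigmaCore M).subgroupOf M) (Group.nilpotent_of_mulEquiv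
        (Subgroup.subgroupOfEquivOfLe (OddTau.Basic.sigmaCore_le M)).symm))
    rwa [Subgroup.map_subgroupOf_eq_of_le (OddTau.Basic.sigmaCore_le M)] at h2
  refine ⟨fun g hg x hx hgx => ?_, hσF⟩
  have hgM : g ∉ M := fun e => hg (Basic.fittingOf_normal M e)
  by_contra hx1
  obtain ⟨p, hp, b, hb, hbo⟩ := exists_prime_pow hx1
  haveI := Fact.mk hp
  have hbF : b ∈ Cfsg.fittingOf M := Subgroup.zpowers_le.2 hx hb
  have hcF : g * b * g⁻¹ ∈ Cfsg.fittingOf M := by
    obtain ⟨i, rfl⟩ := hb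
    rw [← conj_zpow]
    exact zpow_mem hgx i
  have hco : orderOf (g * b * g⁻¹) = p := (MulEquiv.orderOf_eq (MulAut.conj g) b).trans hbo
  have hFM : Cfsg.fittingOf M ≤ M := Cores.fittingOf_le M
  by_cases hpσ : p ∈ Cfsg.sigma M
  · obtain ⟨E, hE⟩ := MaximalBasics.exists_compl h.min P.max
    refine ((Cfsg.Agent.S1426.result h.min M P.max E hE).2.2 g hgM).2.1 p hp ?_ (hβ ▸ hpσ)
    exact dvd_card_of_mem (H := Cfsg.sigmaCore M ⊓ M.map (MulAut.conj g).toMonoidHom)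
      ⟨h.mem_sigmaCore_prime P.max (hFM hcF) hp hco hpσ, b, hFM hbF, rfl⟩ (hco ▸ dvd_rfl)
  · obtain ⟨hYc, -, -⟩ := Cfsg.Agent.S1439.result h.min M P.max
    set Y := Cfsg.piCoreOf {q | q.Prime ∧ q ∉ Cfsg.sigma M} (Cfsg.fittingOf M) with hY
    have hmem : ∀ c ∈ Cfsg.fittingOf M, orderOf c = p → c ∈ Y := fun c hc hco' =>
      OddFitting.HallSub.pgroup_le_piCoreOf (Basic.fittingOf_isNilpotent M)
        (Subgroup.zpowers_le.2 hc) (SigmaDisjoint.zpowers_isPGroup hco')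
        (show p ∈ {q | q.Prime ∧ q ∉ Cfsg.sigma M} from ⟨hp, hpσ⟩) (Subgroup.mem_zpowers c)
    haveI := hYc
    have huniq : ∀ c ∈ Cfsg.fittingOf M, orderOf c = p →
        Subgroup.zpowers c = Subgroup.zpowers b := fun c hc hco' =>
      Cyclic.eq_of_card_eq_of_isCyclic (W := Y) (Subgroup.zpowers_le.2 (hmem c hc hco'))
        (Subgroup.zpowers_le.2 (hmem b hbF hbo)) (by rw [Nat.card_zpowers, Nat.card_zpowers, hco', hbo])
    have hMn : M ≤ Subgroup.normalizer (Subgroup.zpowers b : Set G) := fun m hm => by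
      refine Subgroup.mem_normalizer_iff_map_conj_eq.2 ?_
      rw [MonoidHom.map_zpowers]
      exact huniq _ ((Subgroup.mem_normalizer_iff.1 (Basic.fittingOf_normal M hm) b).1 hbF)
        ((MulEquiv.orderOf_eq (MulAut.conj m) b).trans hbo)
    refine hgM ((normalizer_eq_of_coatom h.min P.max (Subgroup.zpowers_le.2 (hFM hbF))
      (fun e => ne_one_of_prime hp hbo (Subgroup.zpowers_eq_bot.1 e)) hMn).le ?_)
    refine Subgroup.mem_normalizer_iff_map_conj_eq.2 ?_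
    rw [MonoidHom.map_zpowers]
    exact huniq _ hcF hco

/-- BG 14.7 (e): the `M`-conjugates of `Ẑ` form `A₀(M) - A(M)`, a TI-set. -/
theorem conj_hat_eq (h : Hyp G) (hM : IsCoatom M) (hKU : Cfsg.IsSigmaDecomposition M K U)
    (hK1 : K ≠ ⊥) :
    {a : G | ∃ m ∈ M, ∃ z ∈ hat M K, a = m * z * m⁻¹} = Cfsg.sigmaA0 M K \ Cfsg.sigmaA M U ∧
      Cfsg.IsTISubset (Cfsg.sigmaA0 M K \ Cfsg.sigmaA M U) := by
  have P := Pair.of hM hKU.hall hK1
  set V := U ⊔ Cfsg.sigmaCore M with hV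
  have hVM : V ≤ M := sup_le hKU.compl.1 (OddTau.Basic.sigmaCore_le M)
  have hVn : M ≤ Subgroup.normalizer (V : Set G) := OddFitting.Decomp.le_normalizer_U_sup hKU
  have hVc : ∀ q : ℕ, q.Prime → q ∣ Nat.card V → q ∉ Cfsg.kappa M := fun q hq hd hκ => by
    rcases SigmaSubgroup.relIndex_sup_right_le q hq
      (by rwa [hV, sup_comm] at hd : q ∣ Nat.card ↥(Cfsg.sigmaCore M ⊔ U))
      (hKU.compl.1.trans (OddTau.Basic.le_normalizer_sigmaCore M)) with h' | h'
    · exact hκ.2.2.1 (OddTau.Basic.mem_sigma_of_dvd hq h')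
    · exact (OddFitting.Decomp.U_prime h.min hM hKU hq h').2 hκ
  have heq : {a : G | ∃ m ∈ M, ∃ z ∈ hat M K, a = m * z * m⁻¹} =
      Cfsg.sigmaA0 M K \ Cfsg.sigmaA M U := by
    ext a
    constructor
    · rintro ⟨m, hm, z, hz, rfl⟩
      obtain ⟨x, hx, y, hy, hx1, hy1, rfl, hxz, hyz⟩ := exists_of_mem_hat hKU.hall hz
      refine ⟨⟨⟨mul_mem (mul_mem hm (sup_star_le hKU.hall (mem_hat.1 hz).1)) (inv_mem hm),
        m * y * m⁻¹, (Subgroup.mem_normalizer_iff.1 (OddTau.Basic.le_normalizer_sigmaCore M hm)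
          y).1 hy.1, fun e => hy1 (conj_eq_one_iff.1 e),
        (((commute_star hx hy).mul_left (Commute.refl y)).map (MulAut.conj m).toMonoidHom).eq⟩,
        ?_⟩, ?_⟩
      · rintro ⟨k, hk, -, m', -, e⟩
        obtain ⟨q, hq, hd⟩ := Nat.exists_prime_and_dvd fun e => hy1 (orderOf_eq_one_iff.1 e)
        refine not_sigma_of_kappa (hKU.hall.2.1 q hq (dvd_card_of_mem hk ?_))
          (mem_sigma_of_mem hy.1 hq hd)
        rw [← MulEquiv.orderOf_eq (MulAut.conj m') k, MulAut.conj_apply, ← e]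
        rw [show m * (x * y) * m⁻¹ = MulAut.conj m (x * y) from rfl, MulEquiv.orderOf_eq]
        exact hd.trans (dvd_of_mem_zpowers hyz)
      · rintro ⟨-, hV'⟩
        have hxV : x ∈ V := Subgroup.zpowers_le.2
          ((Subgroup.mem_normalizer_iff.1 (hVn hm) (x * y)).2 hV') hxz
        obtain ⟨q, hq, hd⟩ := Nat.exists_prime_and_dvd fun e => hx1 (orderOf_eq_one_iff.1 e)
        exact hVc q hq (dvd_card_of_mem hxV hd) (hKU.hall.2.1 q hq (dvd_card_of_mem hx hd))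
    · rintro ⟨⟨hhat, hnK⟩, hnA⟩
      have haM : a ∈ M := hhat.1
      have haV : a ∉ V := fun e => hnA ⟨hhat, e⟩
      haveI hN : (V.subgroupOf M).Normal := (Subgroup.normal_subgroupOf_iff_le_normalizer hVM).2 hVn
      obtain ⟨q, hq, hd⟩ := Nat.exists_prime_and_dvd (n := orderOf
        ((QuotientGroup.mk' (V.subgroupOf M)) ⟨a, haM⟩)) fun e => haV
          (Subgroup.mem_subgroupOf.1 ((QuotientGroup.eq_one_iff (⟨a, haM⟩ : M)).1
            (orderOf_eq_one_iff.1 e)))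
      have hqK : q ∈ Cfsg.kappa M := by
        refine hKU.hall.2.1 q hq ?_
        have h1 : q ∣ V.relIndex M := hd.trans (orderOf_dvd_natCard _)
        have h2 := OddFitting.Decomp.card_mul_relIndex hVM
        have h3 : Nat.card V = Nat.card U * Nat.card (Cfsg.sigmaCore M) :=
          Coprime.card_sup_of_disjoint (hKU.compl.1.trans (OddTau.Basic.le_normalizer_sigmaCore M))
            (disjoint_iff.2 (le_bot_iff.1
              ((inf_le_inf_left _ le_sup_right).trans hKU.compl.2.2.1.le)))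
        rw [h3, ← OddFitting.Decomp.card_eq hKU, mul_assoc] at h2
        have h4 := Nat.eq_of_mul_eq_mul_left Nat.card_pos h2
        rw [mul_comm (Nat.card K)] at h4
        exact Nat.eq_of_mul_eq_mul_left Nat.card_pos h4 ▸ h1
      have hd' : q ∣ orderOf a :=
        hd.trans ((orderOf_map_dvd _ _).trans (by rw [Subgroup.orderOf_mk]))
      obtain ⟨hbo, hb⟩ := BG14.ElementDichotomy.pow_prime_mem hd'
      set b := a ^ (orderOf a / q) with hbdef
      have hbM : b ∈ M := Subgroup.zpowers_le.2 haM hb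
      obtain ⟨m, hm, hmK⟩ := h.exists_conj_mem hM hKU.hall hbM fun r hr hrd => by
        rw [hbo] at hrd
        exact (Nat.prime_dvd_prime_iff_eq hr hq).1 hrd ▸ hqK
      have hb1 : m * b * m⁻¹ ≠ 1 := fun e => ne_one_of_prime hq hbo (conj_eq_one_iff.1 e)
      have haZ : m * a * m⁻¹ ∈ K ⊔ star M K := by
        rw [← inf_centralizer_eq h P hmK hb1]
        exact ⟨M.mul_mem (M.mul_mem hm haM) (M.inv_mem hm), Subgroup.mem_centralizer_singleton_iff.2
          (((Commute.refl a).pow_right _).map (MulAut.conj m).toMonoidHom).eq⟩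
      refine ⟨m⁻¹, inv_mem hm, m * a * m⁻¹, mem_hat.2 ⟨haZ, fun hk => hnK ?_, fun hs => ?_⟩,
        by group⟩
      · refine ⟨m * a * m⁻¹, hk, fun e => haV ?_, m⁻¹, inv_mem hm, by group⟩
        rw [conj_eq_one_iff.1 e]
        exact one_mem _
      · refine hqK.2.2.1 (mem_sigma_of_mem hs.1 hq ?_)
        rwa [show m * a * m⁻¹ = MulAut.conj m a from rfl, MulEquiv.orderOf_eq]
  refine ⟨heq, ?_⟩
  rw [← heq]
  intro g hg x hx hgx
  exfalso
  have key : ∀ g : G, g ∈ M → ∀ a ∈ {a : G | ∃ m ∈ M, ∃ z ∈ hat M K, a = m * z * m⁻¹},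
      g * a * g⁻¹ ∈ {a : G | ∃ m ∈ M, ∃ z ∈ hat M K, a = m * z * m⁻¹} := by
    rintro g hg _ ⟨m, hm, z, hz, rfl⟩
    exact ⟨g * m, mul_mem hg hm, z, hz, by group⟩
  refine hg (Subgroup.mem_set_normalizer_iff.2 ?_)
  obtain ⟨m, hm, z, hz, rfl⟩ := hx
  obtain ⟨m', hm', z', hz', e⟩ := hgx
  have h1 : (m'⁻¹ * g * m) * z * (m'⁻¹ * g * m)⁻¹ = z' := by
    calc _ = m'⁻¹ * (g * (m * z * m⁻¹) * g⁻¹) * m' := by group
      _ = m'⁻¹ * (m' * z' * m'⁻¹) * m' := by rw [e]
      _ = z' := by group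
  have h2 := sup_star_le hKU.hall (mem_of_conj_hat h P hz (h1 ▸ (mem_hat.1 hz').1))
  have hgM : g ∈ M := by
    rw [show g = m' * (m'⁻¹ * g * m) * m⁻¹ by group]
    exact mul_mem (mul_mem hm' h2) (inv_mem hm)
  refine fun a => ⟨key g hgM a, fun ha => ?_⟩
  have h3 := key g⁻¹ (inv_mem hgM) _ ha
  rwa [show g⁻¹ * (g * a * g⁻¹) * g⁻¹⁻¹ = a by group] at h3

end Cfsg.Agent.Lib.OddOrder.Partner
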