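import Cfsg.Agent.Lib.OddOrder.Partner.Family
import Cfsg.Agent.S1429
import Cfsg.Agent.S1446

/-!
# BG 14.7: the counting argument and the partner
-/

set_option autoImplicit false
set_option linter.style.haveILetI false
set_option linter.unusedSectionVars false

open scoped Pointwise

namespace Cfsg.Agent.Lib.OddOrder.Partner

open Cfsg.Agent.Lib.OddOrder Cfsg.Agent.Lib.OddOrder.MinSimple

universe u

variable {G : Type u} [Group G] [Finite G] {M N L L' Z K K' : Subgroup G}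

/-- `M_σ` is at least three times as big as `K*`. -/
theorem three_mul_card_star (h : Hyp G) (P : Pair Z L K) :
    3 * Nat.card (star L K) ≤ Nat.card (Cfsg.sigmaCore L) := by
  obtain ⟨q, hq, hd⟩ :=
    Nat.exists_prime_and_dvd (mt Subgroup.card_eq_one.1 (h.star_ne_bot P.max P.hall P.ne))
  haveI := Fact.mk hq
  obtain ⟨-, -, hS⟩ := (h.r1431 L P.max K P.hall P.ne).2.2.1 q hq hd
    (Classical.arbitrary (Sylow q ↥(Cfsg.sigmaCore L)))
  have hne : star L K ≠ Cfsg.sigmaCore L := fun e =>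
    hS ((Subgroup.map_subtype_le _).trans e.ge)
  have hmul := OddFitting.Decomp.card_mul_relIndex (inf_le_left : star L K ≤ Cfsg.sigmaCore L)
  obtain ⟨i, hi⟩ : Odd ((star L K).relIndex (Cfsg.sigmaCore L)) :=
    (odd_card h.min (Cfsg.sigmaCore L)).of_dvd_nat (Dvd.intro_left _ hmul)
  have hi0 : i ≠ 0 := fun e => hne (le_antisymm inf_le_left
    (Subgroup.relIndex_eq_one.1 (by rw [hi, e, mul_zero, zero_add])))
  calc 3 * Nat.card (star L K) ≤ (star L K).relIndex (Cfsg.sigmaCore L) * Nat.card (star L K) :=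
        Nat.mul_le_mul_right _ (by omega)
    _ = _ := by rw [mul_comm, hmul]

/-- One summand of the counting. -/
theorem tilde_bound (h : Hyp G) (P : Pair Z L K) (h1 : IsP1 L) :
    3 * Nat.card (star L K) * Nat.card G ≤
      3 * (Cfsg.tildeOf L ((Cfsg.sigmaCore L : Set G) \ {1})).ncard * Nat.card Z + Nat.card G := by
  have hz := three_mul_card_star h P
  obtain ⟨s, hs⟩ := Nat.exists_eq_succ_of_ne_zero
    (Nat.card_pos (α := Cfsg.sigmaCore L)).ne'
  have hG : Nat.card G = Nat.card K * Nat.card (Cfsg.sigmaCore L) * L.index := by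
    rw [← h.card_of_isP1 P.max P.hall h1, Subgroup.card_mul_index]
  rw [h.r1377 L P.max, P.eq, card_sup_star P.hall, hG, hs, Nat.succ_sub_one]
  rw [hs] at hz
  nlinarith [Nat.mul_le_mul_left (Nat.card K * L.index) hz]

/-- BG 14.7, the counting: not all of the maximal subgroups sharing `Z` are of type `P₁`. -/
theorem count (h : Hyp G) (P : Pair Z M K) {I : Finset (Subgroup G)} {Kf : Subgroup G → Subgroup G}
    (hI : ∀ L ∈ I, Pair Z L (Kf L)) (hall : ∀ L K', Pair Z L K' → L ∈ I)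
    (h1 : ∀ L ∈ I, IsP1 L) (h2 : 2 ≤ I.card) : False := by
  classical
  haveI := Fintype.ofFinite G
  set tl : Subgroup G → Finset G := fun L =>
    (Set.toFinite (Cfsg.tildeOf L ((Cfsg.sigmaCore L : Set G) \ {1}))).toFinset with htl
  set C : Finset G := (Set.toFinite (Dickson.conjClosure (outer Z))).toFinset with hC
  set T : Finset G := (Set.toFinite (outer Z)).toFinset with hT
  set sf : Subgroup G → Finset G :=
    fun L => ((Set.toFinite (star L (Kf L) : Set G)).toFinset).erase 1 with hsf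
  have hmem : ∀ L z, z ∈ sf L ↔ z ≠ 1 ∧ z ∈ star L (Kf L) := by simp [hsf]
  -- the tilde sets and the conjugates of `outer Z` are disjoint and miss `1`
  have hd : (I : Set (Subgroup G)).PairwiseDisjoint tl := by
    intro L hL L' hL' hne
    rw [Function.onFun, Finset.disjoint_left]
    intro x hx hx'
    simp only [htl, Set.Finite.mem_toFinset] at hx hx'
    have := tilde_disjoint h (hI L hL).max (hI L' hL').max
      (fun g e => hne ((hI L hL).eq_of_conj h (hI L' hL') e).symm)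
    exact (this ▸ ⟨hx, hx'⟩ : x ∈ (∅ : Set G))
  have hdC : Disjoint (I.biUnion tl) C := by
    rw [Finset.disjoint_left]
    intro x hx hx'
    simp only [htl, hC, Finset.mem_biUnion, Set.Finite.mem_toFinset] at hx hx'
    obtain ⟨L, hL, hx⟩ := hx
    obtain ⟨y, z, hz, rfl⟩ := hx'
    exact outer_not_tilde h P (hI L hL).max hz y hx
  have h1mem : (1 : G) ∉ I.biUnion tl ∪ C := by
    simp only [htl, hC, Finset.mem_union, Finset.mem_biUnion, Set.Finite.mem_toFinset, not_or,
      not_exists, not_and]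
    refine ⟨fun L hL => one_notMem_tilde h (hI L hL).max, ?_⟩
    rintro ⟨y, z, hz, e⟩
    exact outer_ne_one P hz (conj_eq_one_iff.1 e)
  have hlt : (I.biUnion tl ∪ C).card < Nat.card G := by
    rw [Nat.card_eq_fintype_card]
    exact Finset.card_lt_univ_of_notMem h1mem
  rw [Finset.card_union_of_disjoint hdC, Finset.card_biUnion hd] at hlt
  -- the partition of `Z`
  have hZ : (Set.toFinite (Z : Set G)).toFinset = insert 1 (T ∪ I.biUnion sf) := by
    ext z
    simp only [hT, Finset.mem_insert, Finset.mem_union, Finset.mem_biUnion, hmem,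
      Set.Finite.mem_toFinset, SetLike.mem_coe]
    constructor
    · intro hz
      by_cases hz1 : z = 1
      · exact Or.inl hz1
      by_cases ho : z ∈ outer Z
      · exact Or.inr (Or.inl ho)
      simp only [outer, Set.mem_ofPred_eq, hz, true_and, not_forall, not_not] at ho
      obtain ⟨L, K', P', hmem'⟩ := ho
      have hL := hall L K' P'
      exact Or.inr (Or.inr ⟨L, hL, hz1, (hI L hL).mem_star_of_sigmaCore hz hmem'.1⟩)
    · rintro (rfl | hz | ⟨L, hL, -, hz⟩)
      · exact one_mem _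
      · exact hz.1
      · exact (hI L hL).star_le hz
  have hdT : Disjoint T (I.biUnion sf) := by
    rw [Finset.disjoint_left]
    intro z hz hz'
    simp only [hT, Finset.mem_biUnion, hmem, Set.Finite.mem_toFinset] at hz hz'
    obtain ⟨L, hL, -, hz'⟩ := hz'
    exact hz.2 L _ (hI L hL) hz'
  have hds : (I : Set (Subgroup G)).PairwiseDisjoint sf := by
    intro L hL L' hL' hne
    rw [Function.onFun, Finset.disjoint_left]
    intro z hz hz'
    rw [hmem] at hz hz'
    obtain ⟨p, hp, hd⟩ := Nat.exists_prime_and_dvd fun e => hz.1 (orderOf_eq_one_iff.1 e)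
    exact (hI L hL).sigma_disjoint h (hI L' hL') hne.symm (mem_sigma_of_mem hz.2.1 hp hd)
      (mem_sigma_of_mem hz'.2.1 hp hd)
  have h1T : (1 : G) ∉ T ∪ I.biUnion sf := by
    simp only [hT, Finset.mem_union, Finset.mem_biUnion, hmem, Set.Finite.mem_toFinset, not_or]
    exact ⟨fun e => outer_ne_one P e rfl, by simp⟩
  have hcZ : Nat.card Z = T.card + ∑ L ∈ I, (sf L).card + 1 := by
    have := congrArg Finset.card hZ
    rw [Finset.card_insert_of_notMem h1T, Finset.card_union_of_disjoint hdT,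
      Finset.card_biUnion hds, ← Set.ncard_eq_toFinset_card] at this
    rw [← this, ← Nat.card_coe_set_eq]
    rfl
  have hsum : ∑ L ∈ I, (sf L).card + I.card = ∑ L ∈ I, Nat.card (star L (Kf L)) := by
    rw [Finset.card_eq_sum_ones I, ← Finset.sum_add_distrib]
    refine Finset.sum_congr rfl fun L _ => ?_
    rw [hsf, Finset.card_erase_add_one (by simp), ← Set.ncard_eq_toFinset_card,
      ← Nat.card_coe_set_eq]
    rfl
  -- the estimate
  have hcC : C.card * Nat.card Z = Nat.card G * T.card := by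
    rw [hC, hT, ← Set.ncard_eq_toFinset_card, ← Set.ncard_eq_toFinset_card]
    exact Dickson.ncard_conjClosure (outer Z) Z (fun k hk s hs => conj_mem_outer hs hk)
      fun g s hs hg => mem_of_conj_outer h P hs hg.1
  have hb : 3 * (∑ L ∈ I, Nat.card (star L (Kf L))) * Nat.card G ≤
      3 * (∑ L ∈ I, (tl L).card) * Nat.card Z + I.card * Nat.card G := by
    rw [Finset.mul_sum, Finset.sum_mul, Finset.mul_sum, Finset.sum_mul, Finset.card_eq_sum_ones I,
      Finset.sum_mul, ← Finset.sum_add_distrib]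
    refine Finset.sum_le_sum fun L hL => ?_
    rw [one_mul, htl, ← Set.ncard_eq_toFinset_card]
    exact tilde_bound h (hI L hL) (h1 L hL)
  have hG0 : 0 < Nat.card G := Nat.card_pos
  have hZ0 : 0 < Nat.card Z := Nat.card_pos
  nlinarith [Nat.mul_le_mul_left (3 * Nat.card Z) (Nat.succ_le_of_lt hlt),
    Nat.mul_le_mul_right (Nat.card G) h2]

theorem exists_sylow_le_hall (h : Hyp G) (hM : IsCoatom M) {π : Set ℕ} {U : Subgroup G}
    (hU : Cfsg.IsPiHallOf π U M) {q : ℕ} [Fact q.Prime] (hq : q ∈ π) :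
    ∃ S : Sylow q M, (S : Subgroup M).map M.subtype ≤ U := by
  obtain ⟨S⟩ : Nonempty (Sylow q M) := inferInstance
  obtain ⟨m, hm, hle⟩ := h.exists_conj_le hM hU (Subgroup.map_subtype_le (S : Subgroup M))
    fun r hr hd => by
      rwa [Hall.prime_dvd_pgroup Fact.out hr (S.2.map _) hd]
  refine ⟨(⟨m, hm⟩ : M) • S, ?_⟩
  rintro _ ⟨x, hx, rfl⟩
  rw [SetLike.mem_coe, Sylow.coe_subgroup_smul] at hx
  obtain ⟨y, hy, rfl⟩ := hx
  exact hle ⟨(y : G), ⟨y, hy, rfl⟩, rfl⟩

/-- The complement `U` of S1430 and its properties when `M` is not of type `P₁`. -/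
theorem exists_regular_U (h : Hyp G) (P : Pair Z M K) (h1 : ¬ IsP1 M) :
    ∃ U : Subgroup G, Cfsg.IsPiHallOf {q | q.Prime ∧ q ∉ Cfsg.kappa M ∧ q ∉ Cfsg.sigma M} U M ∧
      K ≤ Subgroup.normalizer (U : Set G) ∧ U ≠ ⊥ ∧
      (∀ k ∈ K, k ≠ 1 → U ⊓ Subgroup.centralizer ({k} : Set G) = ⊥) ∧
      Cfsg.sigmaCore M ⊓ Subgroup.centralizer (U : Set G) = ⊥ ∧
      Group.IsNilpotent (Cfsg.sigmaCore M) := by
  obtain ⟨U, -, hU, hn, hreg⟩ := (h.r1430 M P.max K P.hall P.ne).2.1
  obtain ⟨q, hq, hqM, hqσ, hqκ⟩ :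
      ∃ q : ℕ, q.Prime ∧ q ∣ Nat.card M ∧ q ∉ Cfsg.sigma M ∧ q ∉ Cfsg.kappa M := by
    simpa [IsP1] using h1
  haveI := Fact.mk hq
  obtain ⟨S, hS⟩ := exists_sylow_le_hall h P.max hU (⟨hq, hqκ, hqσ⟩ :
    q ∈ {q | q.Prime ∧ q ∉ Cfsg.kappa M ∧ q ∉ Cfsg.sigma M})
  obtain ⟨-, hfix, hnil⟩ := Cfsg.Agent.S1429.result h.min M P.max h1 q hqM
    (by simp [hqσ, hqκ]) S
  have hle : Subgroup.closure {x : G | x ∈ (S : Subgroup M).map M.subtype ∧ x ^ q = 1} ≤ U :=
    (Subgroup.closure_le _).2 fun x hx => hS hx.1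
  refine ⟨U, hU, hn, fun e => ?_, hreg, le_bot_iff.1 ((inf_le_inf_left _
    (Subgroup.centralizer_le (SetLike.coe_subset_coe.2 hle))).trans hfix.le), hnil⟩
  exact hU.2.2 q hq ⟨hq, hqκ, hqσ⟩ (by rw [e, Subgroup.relIndex_bot_left]; exact hqM)

/-- BG 14.7: `K` has prime order unless `M` is of type `P₁`. -/
theorem card_prime_of_not_isP1 (h : Hyp G) (P : Pair Z M K) (h1 : ¬ IsP1 M) :
    (Nat.card K).Prime := by
  obtain ⟨U, hU, hn, hU1, hreg, hfix, hnil⟩ := exists_regular_U h P h1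
  have hle : U ⊔ K ≤ M := sup_le hU.1 P.hall.1
  haveI := h.solvable P.max
  have hUK : U ⊓ K = ⊥ := Basic.inf_eq_bot_of_coprime (Nat.coprime_of_dvd fun q hq ha hb =>
    (hU.2.1 q hq ha).2.1 (P.hall.2.1 q hq hb))
  refine (Cfsg.Agent.S1446.result U K (Cfsg.sigmaCore M) hU1 P.ne hUK hn hreg
    (Coprime.isSolvable_of_le hle) (odd_card h.min _) (fun e => ?_) hnil
    (hU.1.trans (OddTau.Basic.le_normalizer_sigmaCore M))
    (P.hall.1.trans (OddTau.Basic.le_normalizer_sigmaCore M)) ?_ hfix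
    (h.r1430 M P.max K P.hall P.ne).1).1
  · exact h.star_ne_bot P.max P.hall P.ne (le_bot_iff.1 (inf_le_left.trans e.le))
  · refine Nat.coprime_of_dvd fun q hq ha hb => ?_
    have hqσ := OddTau.Basic.mem_sigma_of_dvd hq hb
    rcases SigmaSubgroup.relIndex_sup_right_le q hq ha hn with h' | h'
    · exact (hU.2.1 q hq h').2.2 hqσ
    · exact not_sigma_of_kappa (P.hall.2.1 q hq h') hqσ

/-- If three maximal subgroups share `Z`, they are of type `P₁`. -/
theorem isP1_of_three (h : Hyp G) {L'' K'' : Subgroup G} (P : Pair Z L K) (P' : Pair Z L' K')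
    (P'' : Pair Z L'' K'') (h1 : L' ≠ L) (h2 : L'' ≠ L) (h3 : L'' ≠ L') : IsP1 L := by
  by_contra hn
  have hp := card_prime_of_not_isP1 h P hn
  have key : ∀ {L₁ K₁ : Subgroup G}, Pair Z L₁ K₁ → L₁ ≠ L → Nat.card K ∈ Cfsg.sigma L₁ := by
    intro L₁ K₁ P₁ hne
    obtain ⟨s, hs, hs1⟩ := (Subgroup.bot_or_exists_ne_one _).resolve_left
      (h.star_ne_bot P₁.max P₁.hall P₁.ne)
    have hsK := P.mem_K (P₁.star_le hs) fun q hq hd hσ =>
      P₁.sigma_disjoint h P hne.symm (mem_sigma_of_mem hs.1 hq hd) hσ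
    obtain ⟨q, hq, hd⟩ := Nat.exists_prime_and_dvd fun e => hs1 (orderOf_eq_one_iff.1 e)
    rw [← (Nat.prime_dvd_prime_iff_eq hq hp).1 (dvd_card_of_mem hsK hd)]
    exact mem_sigma_of_mem hs.1 hq hd
  exact P'.sigma_disjoint h P'' h3 (key P' h1) (key P'' h2)

/-- The partner `M*` of `M`: `K = C_{M*_σ}(K*)` and `K*` is a Hall `κ(M*)`-subgroup. -/
structure IsPartner (M K N : Subgroup G) : Prop where
  max : IsCoatom N
  eq : K = star N (star M K)
  hall : Cfsg.IsPiHallOf (Cfsg.kappa N) (star M K) N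

/-- BG 14.7: the partner exists, it is the only further maximal subgroup sharing `Z`, and one of
the two is not of type `P₁`. -/
theorem exists_partner (h : Hyp G) (P : Pair Z M K) :
    ∃ N : Subgroup G, IsPartner M K N ∧ N ≠ M ∧ Pair Z N (star M K) ∧
      (∀ L K', Pair Z L K' → L = M ∨ L = N) ∧ (¬ IsP1 M ∨ ¬ IsP1 N) := by
  classical
  haveI := Fintype.ofFinite (Subgroup G)
  obtain ⟨p, hp, hd⟩ := Nat.exists_prime_and_dvd (mt Subgroup.card_eq_one.1 P.ne)
  haveI := Fact.mk hp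
  obtain ⟨x, hx, hxo⟩ := exists_orderOf hp hd
  obtain ⟨N, hN, hxN⟩ := exists_coatom_ge h.min (normalizer_ne_top h.min
    (fun e => ne_one_of_prime hp hxo (Subgroup.zpowers_eq_bot.1 e))
    (pgroup_ne_top h.min (SigmaDisjoint.zpowers_isPGroup hxo)))
  obtain ⟨-, hNM, K₂, P₂⟩ := exists_pair h P (Subgroup.zpowers_le.2 hx)
    (by rw [Nat.card_zpowers, hxo]; exact hp) hN hxN
  set I : Finset (Subgroup G) := Finset.univ.filter fun L => ∃ K', Pair Z L K' with hI
  have hall : ∀ L K', Pair Z L K' → L ∈ I := fun L K' P' => by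
    simp only [hI, Finset.mem_filter, Finset.mem_univ, true_and]; exact ⟨K', P'⟩
  have hex : ∀ L ∈ I, ∃ K', Pair Z L K' := fun L hL => by simpa [hI] using hL
  choose! Kf hKf using hex
  have h2 : 2 ≤ I.card := Finset.one_lt_card.2 ⟨N, hall N K₂ P₂, M, hall M K P, hNM⟩
  have htwo : ∀ L K', Pair Z L K' → L = M ∨ L = N := by
    intro L K' P'
    by_contra hne
    rw [not_or] at hne
    refine count h P hKf hall (fun L₀ hL₀ => ?_) h2
    by_cases e1 : L₀ = M
    · exact isP1_of_three h (hKf L₀ hL₀) P₂ P' (e1 ▸ hNM) (e1 ▸ hne.1) hne.2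
    by_cases e2 : L₀ = N
    · exact isP1_of_three h (hKf L₀ hL₀) P P' (Ne.symm e1) (e2 ▸ hne.2) hne.1
    exact isP1_of_three h (hKf L₀ hL₀) P P₂ (Ne.symm e1) (Ne.symm e2) hNM
  have hor : ¬ IsP1 M ∨ ¬ IsP1 N := by
    by_contra hc
    rw [not_or, not_not, not_not] at hc
    refine count h P hKf hall (fun L₀ hL₀ => ?_) h2
    rcases htwo L₀ _ (hKf L₀ hL₀) with rfl | rfl
    exacts [hc.1, hc.2]
  have hσM : ∀ q, q ∈ Cfsg.sigma M → q ∉ Cfsg.sigma N := fun q => P.sigma_disjoint h P₂ hNM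
  have hKN : ∀ q : ℕ, q.Prime → q ∣ Nat.card K → q ∈ Cfsg.sigma N := by
    intro q hq hqd
    obtain ⟨b, hb, hbo⟩ := exists_orderOf hq hqd
    obtain ⟨L, K', P', hbs⟩ := exists_member h P hq hbo (P.K_le hb)
    have hqL := mem_sigma_of_mem hbs.1 hq (hbo ▸ dvd_rfl)
    rcases htwo L K' P' with rfl | rfl
    · exact absurd hqL (not_sigma_of_kappa (P.hall.2.1 q hq hqd))
    · exact hqL
  have hK : K = star N K₂ := by
    refine le_antisymm (fun k hk => P₂.mem_star (P.K_le hk) fun q hq hqd =>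
      hKN q hq (dvd_card_of_mem hk hqd)) fun s hs => P.mem_K (P₂.star_le hs) fun q hq hqd hσ =>
        hσM q hσ (mem_sigma_of_mem hs.1 hq hqd)
  have hS : K₂ = star M K := by
    refine le_antisymm (fun k hk => ?_) fun s hs => P₂.mem_K (P.star_le hs) fun q hq hqd =>
      hσM q (mem_sigma_of_mem hs.1 hq hqd)
    obtain ⟨a, ha, b, hb, rfl, -, haz, -⟩ := P.factor (P₂.K_le hk)
    rw [P₂.inf_star (Subgroup.zpowers_le.2 hk haz) (hK ▸ ha), one_mul]
    exact hb
  subst hS
  exact ⟨N, ⟨hN, hK, P₂.hall⟩, hNM, P₂, htwo, hor⟩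

end Cfsg.Agent.Lib.OddOrder.Partner
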