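import Cfsg.Agent.Lib.OddOrder.Partner.Hyps
import Cfsg.Agent.Lib.Dickson.Counting

/-!
# BG 14.7: the maximal subgroups sharing `Z = K K*`

`Pair Z L K` says that `Z = K K*` for a Hall `κ(L)`-subgroup `K` of `L`.  This file shows that the
maximal subgroups over the normalizers of the subgroups of prime order of `K` share `Z`, and that the
conjugates of the elements of `Z` outside all `K*` avoid every `Ã(N)`.
-/

set_option autoImplicit false
set_option linter.style.haveILetI false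
set_option linter.unusedSectionVars false

open scoped Pointwise

namespace Cfsg.Agent.Lib.OddOrder.Partner

open Cfsg.Agent.Lib.OddOrder Cfsg.Agent.Lib.OddOrder.MinSimple

universe u

variable {G : Type u} [Group G] [Finite G] {M N L L' Z K K' : Subgroup G}

/-- `Z = K K*` in `L`. -/
structure Pair (Z L K : Subgroup G) : Prop where
  max : IsCoatom L
  hall : Cfsg.IsPiHallOf (Cfsg.kappa L) K L
  ne : K ≠ ⊥
  eq : Z = K ⊔ star L K

theorem Pair.of (hM : IsCoatom M) (hK : Cfsg.IsPiHallOf (Cfsg.kappa M) K M) (hK1 : K ≠ ⊥) :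
    Pair (K ⊔ star M K) M K :=
  ⟨hM, hK, hK1, rfl⟩

theorem Pair.le (P : Pair Z L K) : Z ≤ L := P.eq ▸ sup_star_le P.hall

theorem Pair.star_le (P : Pair Z L K) : star L K ≤ Z := P.eq ▸ le_sup_right

theorem Pair.K_le (P : Pair Z L K) : K ≤ Z := P.eq ▸ le_sup_left

theorem Pair.le_normalizer (P : Pair Z L K) : Z ≤ Subgroup.normalizer (K : Set G) :=
  P.eq ▸ sup_le Subgroup.le_normalizer (star_le_normalizer L K)

theorem Pair.factor (P : Pair Z L K) {z : G} (hz : z ∈ Z) :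
    ∃ k ∈ K, ∃ s ∈ star L K, z = k * s ∧ Commute k s ∧ k ∈ Subgroup.zpowers z ∧
      s ∈ Subgroup.zpowers z := by
  obtain ⟨k, hk, s, hs, rfl, hc⟩ := exists_factor (P.eq ▸ hz : z ∈ K ⊔ star L K)
  exact ⟨k, hk, s, hs, rfl, hc, factor_zpowers P.hall hk hs⟩

theorem dvd_of_mem_zpowers {a z : G} (ha : a ∈ Subgroup.zpowers z) : orderOf a ∣ orderOf z := by
  rw [← Nat.card_zpowers z]
  exact Subgroup.orderOf_dvd_natCard _ ha

theorem Pair.mem_star (P : Pair Z L K) {z : G} (hz : z ∈ Z)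
    (hσ : ∀ p : ℕ, p.Prime → p ∣ orderOf z → p ∈ Cfsg.sigma L) : z ∈ star L K := by
  obtain ⟨k, hk, s, hs, rfl, -, hkz, -⟩ := P.factor hz
  have hk1 : k = 1 := by
    by_contra hne
    obtain ⟨p, hp, hd⟩ := Nat.exists_prime_and_dvd fun e => hne (orderOf_eq_one_iff.1 e)
    exact not_sigma_of_kappa (P.hall.2.1 p hp (dvd_card_of_mem hk hd))
      (hσ p hp (hd.trans (dvd_of_mem_zpowers hkz)))
  rwa [hk1, one_mul]

theorem Pair.mem_K (P : Pair Z L K) {z : G} (hz : z ∈ Z)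
    (hσ : ∀ p : ℕ, p.Prime → p ∣ orderOf z → p ∉ Cfsg.sigma L) : z ∈ K := by
  obtain ⟨k, hk, s, hs, rfl, -, -, hsz⟩ := P.factor hz
  have hs1 : s = 1 := by
    by_contra hne
    obtain ⟨p, hp, hd⟩ := Nat.exists_prime_and_dvd fun e => hne (orderOf_eq_one_iff.1 e)
    exact hσ p hp (hd.trans (dvd_of_mem_zpowers hsz)) (mem_sigma_of_mem hs.1 hp hd)
  rwa [hs1, mul_one]

theorem Pair.mem_star_of_sigmaCore (P : Pair Z L K) {z : G} (hz : z ∈ Z)
    (hσ : z ∈ Cfsg.sigmaCore L) : z ∈ star L K :=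
  P.mem_star hz fun _ hp hd => mem_sigma_of_mem hσ hp hd

theorem Pair.inf_star (P : Pair Z L K) {z : G} (hk : z ∈ K) (hs : z ∈ star L K) : z = 1 :=
  Subgroup.mem_bot.1
    (Basic.inf_eq_bot_of_coprime (coprime_kappa_star P.hall) ▸ Subgroup.mem_inf.2 ⟨hk, hs⟩)

/-- `Z` normalizes `K*`. -/
theorem Pair.conj_mem_star_iff (P : Pair Z L K) {z w : G} (hw : w ∈ Z) :
    w * z * w⁻¹ ∈ star L K ↔ z ∈ star L K := by
  have key : ∀ {w z : G}, w ∈ Z → z ∈ star L K → w * z * w⁻¹ ∈ star L K := fun hw hz =>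
    P.mem_star_of_sigmaCore (mul_mem (mul_mem hw (P.star_le hz)) (inv_mem hw))
      ((Subgroup.mem_normalizer_iff.1 (OddTau.Basic.le_normalizer_sigmaCore L (P.le hw)) _).1 hz.1)
  refine ⟨fun h1 => ?_, key hw⟩
  have h2 := key (inv_mem hw) h1
  rwa [show w⁻¹ * (w * z * w⁻¹) * w⁻¹⁻¹ = z by group] at h2

/-- BG 14.7, first step: the primes of an element of `M_σ` commuting with an element of `N_σ`,
each in the other subgroup, lie in `κ`. -/
theorem kappa_of_commute (h : Hyp G) (hM : IsCoatom M) (hN : IsCoatom N) (hne : M ≠ N) {x y : G}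
    (hx : x ∈ Cfsg.sigmaCore N) (hx1 : x ≠ 1) (hxM : x ∈ M) (hy : y ∈ Cfsg.sigmaCore M)
    (hyN : y ∈ N) {q : ℕ} (hq : q.Prime) (hyo : orderOf y = q) (hc : Commute y x)
    (hσ : q ∉ Cfsg.sigma N) : q ∈ Cfsg.kappa N := by
  have hσ' : ∀ p : ℕ, p.Prime → p ∣ orderOf y → p ∉ Cfsg.sigma N := fun p hp hd => by
    rw [hyo] at hd
    exact (Nat.prime_dvd_prime_iff_eq hp hq).1 hd ▸ hσ
  rcases h.dichotomy hN hx hx1 hyN hc (ne_one_of_prime hq hyo) hσ' with ⟨hκ, -⟩ | ⟨-, -, hCN, huniq⟩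
  · exact hκ q hq (hyo ▸ dvd_rfl)
  · exfalso
    have hy1 := ne_one_of_prime hq hyo
    by_cases hyM : Subgroup.centralizer ({y} : Set G) ≤ M
    · exact hne (huniq M hM hyM)
    · exact hx1 (Subgroup.mem_bot.1 ((h.spec_of hM hy hy1 hyM hN hCN).compl.2.2.1 ▸
        ⟨⟨hxM, OddTau.Basic.sigmaCore_le N hx⟩, hx⟩))

theorem eq_zpowers {X : Subgroup G} {p : ℕ} (hXc : Nat.card X = p) {x : G} (hx : x ∈ X)
    (hxo : orderOf x = p) : Subgroup.zpowers x = X :=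
  Subgroup.eq_of_le_of_card_ge (Subgroup.zpowers_le.2 hx) (by rw [Nat.card_zpowers, hxo, hXc])

theorem centralizer_le_normalizer_of_card {X : Subgroup G} {p : ℕ} (hXc : Nat.card X = p) {x : G}
    (hx : x ∈ X) (hxo : orderOf x = p) :
    Subgroup.centralizer ({x} : Set G) ≤ Subgroup.normalizer (X : Set G) :=
  eq_zpowers hXc hx hxo ▸ BG14.Support.centralizer_le_normalizer_zpowers x

/-- The maximal subgroups over `N(X)`, `X ≤ K` of prime order, share `Z`. -/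
theorem exists_pair (h : Hyp G) (P : Pair Z M K) {X : Subgroup G} (hXK : X ≤ K)
    (hXp : (Nat.card X).Prime) (hN : IsCoatom N) (hNX : Subgroup.normalizer (X : Set G) ≤ N) :
    X ≤ Cfsg.sigmaCore N ∧ N ≠ M ∧ ∃ K₂, Pair Z N K₂ := by
  obtain ⟨hMX, -, hAb⟩ := (h.r1430 M P.max K P.hall P.ne).2.2 X hXK hXp
  have hXσ := hAb N hN hNX
  set p := Nat.card X with hpdef
  obtain ⟨x, hxX, hxo⟩ := exists_orderOf hXp dvd_rfl
  have hx1 := ne_one_of_prime hXp hxo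
  have hxK := hXK hxX
  have hpκ : p ∈ Cfsg.kappa M := P.hall.2.1 p hXp (dvd_card_of_mem hxK (hxo ▸ dvd_rfl))
  have hpN : p ∈ Cfsg.sigma N := mem_sigma_of_mem (hXσ hxX) hXp (hxo ▸ dvd_rfl)
  have hNM : N ≠ M := fun e => not_sigma_of_kappa hpκ (e ▸ hpN)
  refine ⟨hXσ, hNM, ?_⟩
  have hdisj : ∀ q : ℕ, q ∈ Cfsg.sigma M → q ∉ Cfsg.sigma N := fun q h1 h2 => by
    obtain ⟨g, rfl⟩ := h.conj_of_sigma P.max hN h1 h2
    rw [sigma_conj_eq] at hpN
    exact not_sigma_of_kappa hpκ hpN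
  have hZN : Z ≤ N := by
    rw [P.eq, ← hMX]
    exact inf_le_right.trans hNX
  have hC : Subgroup.centralizer ({x} : Set G) ≤ Subgroup.normalizer (X : Set G) :=
    centralizer_le_normalizer_of_card rfl hxX hxo
  -- `K*` is a `κ(N)`-group
  have hSκ : ∀ q : ℕ, q.Prime → q ∣ Nat.card (star M K) → q ∈ Cfsg.kappa N := by
    intro q hq hd
    obtain ⟨y, hy, hyo⟩ := exists_orderOf hq hd
    exact kappa_of_commute h P.max hN hNM.symm (hXσ hxX) hx1 (P.hall.1 hxK) hy.1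
      (hZN (P.star_le hy)) hq hyo (commute_star hxK hy).symm
      (hdisj q (mem_sigma_of_mem hy.1 hq (hyo ▸ dvd_rfl)))
  haveI := h.solvable hN
  obtain ⟨K₂, hK₂, hSK₂⟩ :=
    OddFitting.CentralizerHall.exists_hall_ge (M := N) (P.star_le.trans hZN) hSκ
  obtain ⟨q, hq, hqd⟩ :=
    Nat.exists_prime_and_dvd (mt Subgroup.card_eq_one.1 (h.star_ne_bot P.max P.hall P.ne))
  obtain ⟨y, hy, hyo⟩ := exists_orderOf hq hqd
  have hy1 := ne_one_of_prime hq hyo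
  have hyK₂ := hSK₂ hy
  have hK₂1 : K₂ ≠ ⊥ := fun e => hy1 (Subgroup.mem_bot.1 (e ▸ hyK₂))
  -- `N(⟨y⟩) ≤ M`
  have hYc : Nat.card (Subgroup.zpowers y) = q := by rw [Nat.card_zpowers, hyo]
  have hYK₂ : Subgroup.zpowers y ≤ K₂ := Subgroup.zpowers_le.2 hyK₂
  obtain ⟨hNY, -, hAY⟩ := (h.r1430 N hN K₂ hK₂ hK₂1).2.2 _ hYK₂ (hYc.symm ▸ hq)
  haveI := Fact.mk hq
  obtain ⟨L, hL, hYL⟩ := exists_coatom_ge h.min (normalizer_ne_top h.min
    (fun e => hy1 (Subgroup.zpowers_eq_bot.1 e))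
    (pgroup_ne_top h.min (SigmaDisjoint.zpowers_isPGroup hyo)))
  have hyL : y ∈ Cfsg.sigmaCore L := hAY L hL hYL (Subgroup.mem_zpowers y)
  obtain ⟨g, hg⟩ := h.conj_of_sigma P.max hL (mem_sigma_of_mem hy.1 hq (hyo ▸ dvd_rfl))
    (mem_sigma_of_mem hyL hq (hyo ▸ dvd_rfl))
  have hgM : g ∈ M := by
    by_contra hgM
    have h1 : y ∈ star M K ⊓ M.map (MulAut.conj g).toMonoidHom :=
      ⟨hy, hg ▸ OddTau.Basic.sigmaCore_le L hyL⟩
    rw [(h.r1431 M P.max K P.hall P.ne).1 g hgM] at h1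
    exact hy1 (Subgroup.mem_bot.1 h1)
  rw [hg, map_conj_of_mem hgM] at hYL
  have hCy : Subgroup.centralizer ({y} : Set G) ≤ Subgroup.normalizer (Subgroup.zpowers y : Set G) :=
    BG14.Support.centralizer_le_normalizer_zpowers y
  -- `K₂ K₂* ≤ Z`
  have hZ₂M : K₂ ⊔ star N K₂ ≤ M := hNY ▸ inf_le_right.trans hYL
  have hx₂ : x ∈ star N K₂ :=
    h.fixed hN hK₂ hyK₂ hy1 (hXσ hxX) (commute_star hxK hy)
  have hK₂Z : K₂ ≤ Z := by
    rw [P.eq, ← hMX]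
    exact fun k hk => ⟨hZ₂M (Subgroup.mem_sup_left hk),
      hC (Subgroup.mem_centralizer_singleton_iff.2 (commute_star hk hx₂).eq)⟩
  have hS₂κ : ∀ t : ℕ, t.Prime → t ∣ Nat.card (star N K₂) → t ∈ Cfsg.kappa M := by
    intro t ht hd
    obtain ⟨s, hs, hso⟩ := exists_orderOf ht hd
    have htN := mem_sigma_of_mem hs.1 ht (hso ▸ dvd_rfl)
    exact kappa_of_commute h hN P.max hNM hy.1 hy1 (hZN (P.star_le hy)) hs.1
      (hZ₂M (Subgroup.mem_sup_right hs)) ht hso (commute_star hyK₂ hs).symm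
      fun htM => hdisj t htM htN
  obtain ⟨m, hm, hmK⟩ := h.exists_conj_le P.max P.hall (le_sup_right.trans hZ₂M) hS₂κ
  have hmZ : m ∈ Z := by
    by_contra hmZ
    have h1 : m * x * m⁻¹ ∈ K ⊓ K.map (MulAut.conj m).toMonoidHom :=
      ⟨hmK ⟨x, hx₂, rfl⟩, ⟨x, hxK, rfl⟩⟩
    rw [(h.r1431 M P.max K P.hall P.ne).2.1 m hm (P.eq ▸ hmZ), Subgroup.mem_bot,
      conj_eq_one_iff] at h1
    exact hx1 h1
  have hS₂K : star N K₂ ≤ K := fun s hs =>
    (Subgroup.mem_normalizer_iff.1 (P.le_normalizer hmZ) s).2 (hmK ⟨s, hs, rfl⟩)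
  refine ⟨K₂, hN, hK₂, hK₂1, le_antisymm ?_ (sup_le hK₂Z (hS₂K.trans P.K_le))⟩
  refine P.eq ▸ sup_le (fun k hk => ?_) (hSK₂.trans le_sup_left)
  rw [← hNY]
  exact ⟨hZN (P.K_le hk), hCy (Subgroup.mem_centralizer_singleton_iff.2 (commute_star hk hy).eq)⟩

theorem Pair.eq_of_conj (h : Hyp G) (P : Pair Z L K) (P' : Pair Z L' K') {g : G}
    (hg : L' = L.map (MulAut.conj g).toMonoidHom) : L' = L := by
  by_cases hgL : g ∈ L
  · rw [hg, map_conj_of_mem hgL]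
  exfalso
  refine h.star_ne_bot P.max P.hall P.ne (le_bot_iff.1 ?_)
  rw [← (h.r1431 L P.max K P.hall P.ne).1 g hgL]
  exact le_inf le_rfl (hg ▸ P.star_le.trans P'.le)

theorem Pair.sigma_disjoint (h : Hyp G) (P : Pair Z L K) (P' : Pair Z L' K') (hne : L' ≠ L) {q : ℕ}
    (h1 : q ∈ Cfsg.sigma L) : q ∉ Cfsg.sigma L' := fun h2 => by
  obtain ⟨g, hg⟩ := h.conj_of_sigma P.max P'.max h1 h2
  exact hne (P.eq_of_conj h P' hg)

/-- Each element of prime order of `Z` lies in some `K_L*`. -/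
theorem exists_member (h : Hyp G) (P : Pair Z M K) {b : G} {p : ℕ} (hp : p.Prime)
    (hbo : orderOf b = p) (hb : b ∈ Z) : ∃ L K₂, Pair Z L K₂ ∧ b ∈ star L K₂ := by
  by_cases hσ : p ∈ Cfsg.sigma M
  · exact ⟨M, K, P, P.mem_star hb fun q hq hd =>
      (Nat.prime_dvd_prime_iff_eq hq hp).1 (hbo ▸ hd) ▸ hσ⟩
  have hbK : b ∈ K := P.mem_K hb fun q hq hd =>
    (Nat.prime_dvd_prime_iff_eq hq hp).1 (hbo ▸ hd) ▸ hσ
  haveI := Fact.mk hp
  obtain ⟨N, hN, hNb⟩ := exists_coatom_ge h.min (normalizer_ne_top h.min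
    (fun e => ne_one_of_prime hp hbo (Subgroup.zpowers_eq_bot.1 e))
    (pgroup_ne_top h.min (SigmaDisjoint.zpowers_isPGroup hbo)))
  obtain ⟨hσN, -, K₂, P'⟩ := exists_pair h P (Subgroup.zpowers_le.2 hbK)
    (by rw [Nat.card_zpowers, hbo]; exact hp) hN hNb
  exact ⟨N, K₂, P', P'.mem_star_of_sigmaCore hb (hσN (Subgroup.mem_zpowers b))⟩

/-- The elements of `Z` outside every `K_L*`. -/
def outer (Z : Subgroup G) : Set G :=
  {z | z ∈ Z ∧ ∀ L K : Subgroup G, Pair Z L K → z ∉ star L K}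

theorem outer_ne_one (P : Pair Z M K) {z : G} (hz : z ∈ outer Z) : z ≠ 1 :=
  fun e => hz.2 M K P (e ▸ one_mem _)

theorem conj_mem_outer {z w : G} (hz : z ∈ outer Z) (hw : w ∈ Z) : w * z * w⁻¹ ∈ outer Z :=
  ⟨mul_mem (mul_mem hw hz.1) (inv_mem hw), fun L K P hmem =>
    hz.2 L K P ((P.conj_mem_star_iff hw).1 hmem)⟩

/-- An element conjugating an element of `outer Z` into `Z` lies in `Z`. -/
theorem mem_of_conj_outer (h : Hyp G) (P : Pair Z M K) {z g : G} (hz : z ∈ outer Z)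
    (hg : g * z * g⁻¹ ∈ Z) : g ∈ Z := by
  obtain ⟨p, hp, b, hb, hbo⟩ := exists_prime_pow (outer_ne_one P hz)
  obtain ⟨L, K₂, P', hbs⟩ := exists_member h P hp hbo (Subgroup.zpowers_le.2 hz.1 hb)
  obtain ⟨k, hk, s, hs, hzks, -, hkz, hsz⟩ := P'.factor hz.1
  have hk1 : k ≠ 1 := fun e => hz.2 L K₂ P' (by rw [hzks, e, one_mul]; exact hs)
  have hs1 : s ≠ 1 := fun e => ne_one_of_prime hp hbo (P'.inf_star (by
    rw [hzks, e, mul_one] at hb
    exact Subgroup.zpowers_le.2 hk hb) hbs)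
  have hpow : ∀ a ∈ Subgroup.zpowers z, g * a * g⁻¹ ∈ Z := fun a ha => by
    obtain ⟨i, rfl⟩ := ha
    rw [← conj_zpow]
    exact zpow_mem hg i
  have hgs : g * s * g⁻¹ ∈ star L K₂ := P'.mem_star (hpow s hsz) fun q hq hd => by
    rw [show g * s * g⁻¹ = MulAut.conj g s from rfl, MulEquiv.orderOf_eq] at hd
    exact mem_sigma_of_mem hs.1 hq hd
  have hgk : g * k * g⁻¹ ∈ K₂ := P'.mem_K (hpow k hkz) fun q hq hd => by
    rw [show g * k * g⁻¹ = MulAut.conj g k from rfl, MulEquiv.orderOf_eq] at hd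
    exact not_sigma_of_kappa (P'.hall.2.1 q hq (dvd_card_of_mem hk hd))
  have hgL : g ∈ L := by
    by_contra hgL
    have h1 : g * s * g⁻¹ ∈ star L K₂ ⊓ L.map (MulAut.conj g).toMonoidHom :=
      ⟨hgs, s, Partner.star_le L K₂ hs, rfl⟩
    rw [(h.r1431 L P'.max K₂ P'.hall P'.ne).1 g hgL, Subgroup.mem_bot, conj_eq_one_iff] at h1
    exact hs1 h1
  by_contra hgZ
  have h1 : g * k * g⁻¹ ∈ K₂ ⊓ K₂.map (MulAut.conj g).toMonoidHom := ⟨hgk, k, hk, rfl⟩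
  rw [(h.r1431 L P'.max K₂ P'.hall P'.ne).2.1 g hgL (P'.eq ▸ hgZ), Subgroup.mem_bot,
    conj_eq_one_iff] at h1
  exact hk1 h1

/-! ### `R(a)` and `Ã` -/

theorem supportR_spec (h : Hyp G) (hN : IsCoatom N) {a r : G} (ha : a ∈ Cfsg.sigmaCore N)
    (ha1 : a ≠ 1) (hr : r ∈ Cfsg.supportR N a) :
    Commute a r ∧ (orderOf a).Coprime (orderOf r) ∧
      (Subgroup.centralizer ({a} : Set G) ≤ N → r = 1) := by
  by_cases hle : Subgroup.centralizer ({a} : Set G) ≤ N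
  · rw [BG14.Support.supportR_of_le hle, Subgroup.mem_bot] at hr
    subst hr
    simp
  obtain ⟨N₁, hS⟩ := h.exists_spec hN ha ha1 hle
  rw [hS.supportR_eq hle] at hr
  exact ⟨(Subgroup.mem_centralizer_singleton_iff.1 hr.2).symm,
    Nat.coprime_of_dvd fun q hq h1 h2 => (hS.tau2 q hq h1).2.1 (mem_sigma_of_mem hr.1 hq h2),
    fun h' => absurd h' hle⟩

theorem centralizer_map_le {c a : G} (hN : Subgroup.centralizer ({a} : Set G) ≤ N) :
    Subgroup.centralizer ({c * a * c⁻¹} : Set G) ≤ N.map (MulAut.conj c).toMonoidHom := fun d hd => by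
  refine Types.General.mem_map_conj.2 (hN (Subgroup.mem_centralizer_singleton_iff.2 ?_))
  have h1 : d * (c * a * c⁻¹) = c * a * c⁻¹ * d := Subgroup.mem_centralizer_singleton_iff.1 hd
  calc c⁻¹ * d * c * a = c⁻¹ * (d * (c * a * c⁻¹)) * c := by group
    _ = c⁻¹ * (c * a * c⁻¹ * d) * c := by rw [h1]
    _ = a * (c⁻¹ * d * c) := by group

theorem centralizer_le_of_map {c a : G}
    (hN : Subgroup.centralizer ({c * a * c⁻¹} : Set G) ≤ N.map (MulAut.conj c).toMonoidHom) :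
    Subgroup.centralizer ({a} : Set G) ≤ N := fun d hd => by
  have h1 : c * d * c⁻¹ ∈ Subgroup.centralizer ({c * a * c⁻¹} : Set G) :=
    Subgroup.mem_centralizer_singleton_iff.2
      ((show Commute d a from Subgroup.mem_centralizer_singleton_iff.1 hd).map
        (MulAut.conj c).toMonoidHom).eq
  have h2 := Types.General.mem_map_conj.1 (hN h1)
  rwa [show c⁻¹ * (c * d * c⁻¹) * c = d by group] at h2

theorem conj_sigmaCore {a c : G} (ha : a ∈ Cfsg.sigmaCore N) :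
    c * a * c⁻¹ ∈ Cfsg.sigmaCore (N.map (MulAut.conj c).toMonoidHom) := by
  rw [sigmaCore_conj_eq]
  exact ⟨a, ha, rfl⟩

/-- `R` commutes with conjugation. -/
theorem supportR_conj (h : Hyp G) (hN : IsCoatom N) {a r c : G} (ha : a ∈ Cfsg.sigmaCore N)
    (ha1 : a ≠ 1) (hr : r ∈ Cfsg.supportR N a) :
    c * r * c⁻¹ ∈ Cfsg.supportR (N.map (MulAut.conj c).toMonoidHom) (c * a * c⁻¹) := by
  by_cases hle : Subgroup.centralizer ({a} : Set G) ≤ N
  · obtain rfl := (supportR_spec h hN ha ha1 hr).2.2 hle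
    simp
  obtain ⟨N₁, hS⟩ := h.exists_spec hN ha ha1 hle
  rw [hS.supportR_eq hle] at hr
  have hle' : ¬ Subgroup.centralizer ({c * a * c⁻¹} : Set G) ≤
      N.map (MulAut.conj c).toMonoidHom := fun e => hle (centralizer_le_of_map e)
  have hS' := h.spec_of (PF8.Conj.im_isCoatom (MulAut.conj c) hN) (conj_sigmaCore ha)
    (fun e => ha1 (conj_eq_one_iff.1 e)) hle' (PF8.Conj.im_isCoatom (MulAut.conj c) hS.max)
    (centralizer_map_le hS.le)
  rw [hS'.supportR_eq hle']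
  exact ⟨conj_sigmaCore hr.1, Subgroup.mem_centralizer_singleton_iff.2
    ((show Commute r a from Subgroup.mem_centralizer_singleton_iff.1 hr.2).map
      (MulAut.conj c).toMonoidHom).eq⟩

theorem one_notMem_tilde (h : Hyp G) (hN : IsCoatom N) :
    (1 : G) ∉ Cfsg.tildeOf N ((Cfsg.sigmaCore N : Set G) \ {1}) := by
  rintro ⟨a, ⟨ha, ha1⟩, r, hr, y, e⟩
  obtain ⟨hc, hco, -⟩ := supportR_spec h hN ha ha1 hr
  have h1 := (mem_zpowers_mul hc hco).1
  rw [conj_eq_one_iff.1 e.symm, Subgroup.zpowers_one_eq_bot, Subgroup.mem_bot] at h1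
  exact ha1 h1

/-- The conjugates of `outer Z` avoid every `Ã(N)`. -/
theorem outer_not_tilde (h : Hyp G) (P : Pair Z M K) (hN : IsCoatom N) {z : G} (hz : z ∈ outer Z)
    (y : G) : y * z * y⁻¹ ∉ Cfsg.tildeOf N ((Cfsg.sigmaCore N : Set G) \ {1}) := by
  rintro ⟨a, ⟨ha, ha1⟩, r, hr, w, e⟩
  obtain ⟨hc, hco, hr1⟩ := supportR_spec h hN ha ha1 hr
  set c := y⁻¹ * w with hcdef
  have hz' : z = c * (a * r) * c⁻¹ := by
    calc z = y⁻¹ * (y * z * y⁻¹) * y := by group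
      _ = c * (a * r) * c⁻¹ := by rw [e, hcdef]; group
  have haz : c * a * c⁻¹ ∈ Subgroup.zpowers z := by
    obtain ⟨i, hi⟩ := (mem_zpowers_mul hc hco).1
    exact ⟨i, by show z ^ i = c * a * c⁻¹; rw [hz', conj_zpow]; exact congrArg (c * · * c⁻¹) hi⟩
  set a' := c * a * c⁻¹ with ha'
  have ha'1 : a' ≠ 1 := fun e => ha1 (conj_eq_one_iff.1 e)
  obtain ⟨p, hp, b, hb, hbo⟩ := exists_prime_pow ha'1
  have hbN : b ∈ Cfsg.sigmaCore (N.map (MulAut.conj c).toMonoidHom) :=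
    Subgroup.zpowers_le.2 (conj_sigmaCore ha) hb
  have ha'Z : a' ∈ Z := Subgroup.zpowers_le.2 hz.1 haz
  obtain ⟨L, K₂, P', hbs⟩ := exists_member h P hp hbo (Subgroup.zpowers_le.2 ha'Z hb)
  obtain ⟨g, hg⟩ := h.conj_of_sigma P'.max (PF8.Conj.im_isCoatom (MulAut.conj c) hN)
    (mem_sigma_of_mem hbs.1 hp (hbo ▸ dvd_rfl)) (mem_sigma_of_mem hbN hp (hbo ▸ dvd_rfl))
  have hgL : g ∈ L := by
    by_contra hgL
    have h1 : b ∈ star L K₂ ⊓ L.map (MulAut.conj g).toMonoidHom :=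
      ⟨hbs, hg ▸ OddTau.Basic.sigmaCore_le _ hbN⟩
    rw [(h.r1431 L P'.max K₂ P'.hall P'.ne).1 g hgL] at h1
    exact ne_one_of_prime hp hbo (Subgroup.mem_bot.1 h1)
  rw [map_conj_of_mem hgL] at hg
  have ha'L : a' ∈ Cfsg.sigmaCore L := hg ▸ conj_sigmaCore ha
  have ha's := P'.mem_star_of_sigmaCore ha'Z ha'L
  obtain ⟨k, hk, hk1⟩ := (Subgroup.bot_or_exists_ne_one K₂).resolve_left P'.ne
  obtain ⟨q, hq, hqd⟩ := Nat.exists_prime_and_dvd fun e => hk1 (orderOf_eq_one_iff.1 e)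
  have hκ := fun (q : ℕ) (hq : q.Prime) (hd : q ∣ orderOf k) =>
    P'.hall.2.1 q hq (dvd_card_of_mem hk hd)
  have hCL : Subgroup.centralizer ({a'} : Set G) ≤ L :=
    (BG14.ElementDichotomy.kappa_case h.typePFixed h.min P'.max ha'L ha'1 (P'.hall.1 hk)
      (commute_star hk ha's).eq (fun q hq hd => not_sigma_of_kappa (hκ q hq hd)) hq hqd
      (hκ q hq hqd)).2
  have hr' := hr1 (centralizer_le_of_map (c := c) (hCL.trans hg.ge))
  refine hz.2 L K₂ P' ?_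
  rw [hz', hr', mul_one]
  exact ha's

/-- `Ã(M)` and `Ã(N)` are disjoint for non-conjugate `M`, `N`. -/
theorem tilde_disjoint (h : Hyp G) (hM : IsCoatom M) (hN : IsCoatom N)
    (hnc : ∀ g : G, N ≠ M.map (MulAut.conj g).toMonoidHom) :
    Cfsg.tildeOf M ((Cfsg.sigmaCore M : Set G) \ {1}) ∩
      Cfsg.tildeOf N ((Cfsg.sigmaCore N : Set G) \ {1}) = ∅ := by
  rw [Set.eq_empty_iff_forall_notMem]
  rintro g ⟨⟨a, ⟨ha, ha1⟩, r, hr, y, rfl⟩, b, ⟨hb, hb1⟩, s, hs, w, e⟩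
  set c := y⁻¹ * w with hc
  have h1 : a * r = c * b * c⁻¹ * (c * s * c⁻¹) := by
    calc a * r = y⁻¹ * (y * (a * r) * y⁻¹) * y := by group
      _ = _ := by rw [e, hc]; group
  have hb' := conj_sigmaCore (c := c) hb
  have hb'1 : c * b * c⁻¹ ≠ 1 := fun e => hb1 (conj_eq_one_iff.1 e)
  by_cases hab : a = c * b * c⁻¹
  · obtain ⟨p, hp, hd⟩ := Nat.exists_prime_and_dvd fun e => ha1 (orderOf_eq_one_iff.1 e)
    have h2 := mem_sigma_of_mem hb' hp (hab ▸ hd)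
    rw [sigma_conj_eq] at h2
    obtain ⟨g, hg⟩ := h.conj_of_sigma hM hN (mem_sigma_of_mem ha hp hd) h2
    exact hnc g hg
  · exact h.r1433 M _ hM (PF8.Conj.im_isCoatom (MulAut.conj c) hN) a _ ha hb' ha1 hb'1 hab r hr _
      (supportR_conj h hN hb hb1 hs) h1

end Cfsg.Agent.Lib.OddOrder.Partner
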