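import Cfsg.Agent.Lib.OddOrder.BG14.SupportRows
import Cfsg.Agent.Lib.OddFitting.CentralizerHall
import Cfsg.Agent.Lib.OddOrder.Types.General
import Cfsg.Agent.Lib.OddOrder.TauTwoFacts
import Cfsg.Agent.S1378

/-!
# BG 14.7: hypotheses and elementary facts

`Hyp G` bundles the results of BG 14.2, 14.4, 14.5 (frozen rows, and 14.2 (f)) used by the theory of the
partner of a maximal subgroup of type `P`.
-/

set_option autoImplicit false
set_option linter.style.haveILetI false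
set_option linter.unusedSectionVars false

open scoped Pointwise

namespace Cfsg.Agent.Lib.OddOrder.Partner

open Cfsg.Agent.Lib.OddOrder Cfsg.Agent.Lib.OddOrder.MinSimple

universe u

variable {G : Type u} [Group G]

/-- `K* = C_{M_σ}(K)`. -/
abbrev star (M K : Subgroup G) : Subgroup G :=
  Cfsg.sigmaCore M ⊓ Subgroup.centralizer (K : Set G)

/-- What the proof of BG 14.7 uses from the earlier results of section 14. -/
structure Hyp (G : Type u) [Group G] [Finite G] : Prop where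
  min : Cfsg.IsMinSimpleOddOrder G
  /-- `S1430`. -/
  r1430 : ∀ M : Subgroup G, IsCoatom M → ∀ K : Subgroup G, Cfsg.IsPiHallOf (Cfsg.kappa M) K M → K ≠ ⊥ →
    (∀ k ∈ K, k ≠ 1 → Cfsg.sigmaCore M ⊓ Subgroup.centralizer ({k} : Set G) = (Cfsg.sigmaCore M ⊓ Subgroup.centralizer (K : Set G))) ∧
      (∃ U : Subgroup G, IsMulCommutative U ∧ Cfsg.IsPiHallOf {q | q.Prime ∧ q ∉ Cfsg.kappa M ∧ q ∉ Cfsg.sigma M} U M ∧
        K ≤ Subgroup.normalizer (U : Set G) ∧ ∀ k ∈ K, k ≠ 1 → U ⊓ Subgroup.centralizer ({k} : Set G) = ⊥) ∧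
      ∀ X : Subgroup G, X ≤ K → (Nat.card X).Prime →
        M ⊓ Subgroup.normalizer (X : Set G) = K ⊔ (Cfsg.sigmaCore M ⊓ Subgroup.centralizer (K : Set G)) ∧ M ⊓ Subgroup.normalizer (K : Set G) = K ⊔ (Cfsg.sigmaCore M ⊓ Subgroup.centralizer (K : Set G)) ∧
        ∀ Mstar : Subgroup G, IsCoatom Mstar → Subgroup.normalizer (X : Set G) ≤ Mstar → X ≤ Cfsg.sigmaCore Mstar
  /-- `S1431`. -/
  r1431 : ∀ M : Subgroup G, IsCoatom M → ∀ K : Subgroup G, Cfsg.IsPiHallOf (Cfsg.kappa M) K M → K ≠ ⊥ →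
    (∀ g : G, g ∉ M → (Cfsg.sigmaCore M ⊓ Subgroup.centralizer (K : Set G)) ⊓ M.map (MulAut.conj g).toMonoidHom = ⊥) ∧
      (∀ g ∈ M, g ∉ K ⊔ (Cfsg.sigmaCore M ⊓ Subgroup.centralizer (K : Set G)) → K ⊓ K.map (MulAut.conj g).toMonoidHom = ⊥) ∧
      (∀ (p : ℕ), p.Prime → p ∣ Nat.card ↥(Cfsg.sigmaCore M ⊓ Subgroup.centralizer (K : Set G)) → ∀ S : Sylow p ↥(Cfsg.sigmaCore M),
        Cfsg.InUniqueMaximal ((S : Subgroup ↥(Cfsg.sigmaCore M)).map (Cfsg.sigmaCore M).subtype) ∧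
        (S : Subgroup ↥(Cfsg.sigmaCore M)).map (Cfsg.sigmaCore M).subtype ≤ M ∧
        ¬ (S : Subgroup ↥(Cfsg.sigmaCore M)).map (Cfsg.sigmaCore M).subtype ≤ (Cfsg.sigmaCore M ⊓ Subgroup.centralizer (K : Set G))) ∧
      ∀ Y : Subgroup G, (∀ p : ℕ, p.Prime → p ∣ Nat.card Y → p ∈ Cfsg.sigma M) → Y ⊓ (Cfsg.sigmaCore M ⊓ Subgroup.centralizer (K : Set G)) ≠ ⊥ → Y ≤ Cfsg.sigmaCore M
  /-- `S1433`. -/
  r1433 : ∀ M N : Subgroup G, IsCoatom M → IsCoatom N → ∀ x y : G, x ∈ Cfsg.sigmaCore M →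
    y ∈ Cfsg.sigmaCore N → x ≠ 1 → y ≠ 1 → x ≠ y →
    ∀ r ∈ Cfsg.supportR M x, ∀ s ∈ Cfsg.supportR N y, x * r ≠ y * s
  /-- `S1377`. -/
  r1377 : ∀ M : Subgroup G, IsCoatom M →
    Set.ncard (Cfsg.tildeOf M ((Cfsg.sigmaCore M : Set G) \ {1})) = (Nat.card (Cfsg.sigmaCore M) - 1) * M.index
  /-- BG 14.2 (f). -/
  sigmaBeta : Interface.BG14.TypeP2SigmaBeta G

theorem sigma_conj_eq [Finite G] (M : Subgroup G) (g : G) :
    Cfsg.sigma (M.map (MulAut.conj g).toMonoidHom) = Cfsg.sigma M :=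
  BG14.Conj.sigma_im (MulAut.conj g) M

theorem kappa_conj_eq [Finite G] (M : Subgroup G) (g : G) :
    Cfsg.kappa (M.map (MulAut.conj g).toMonoidHom) = Cfsg.kappa M :=
  BG14.Conj.kappa_im (MulAut.conj g) M

theorem tau2_conj_eq [Finite G] (M : Subgroup G) (g : G) :
    Cfsg.tau2 (M.map (MulAut.conj g).toMonoidHom) = Cfsg.tau2 M :=
  BG14.Conj.tau2_im (MulAut.conj g) M

theorem sigmaCore_conj_eq [Finite G] (M : Subgroup G) (g : G) :
    Cfsg.sigmaCore (M.map (MulAut.conj g).toMonoidHom) =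
      (Cfsg.sigmaCore M).map (MulAut.conj g).toMonoidHom :=
  (BG14.Conj.im_sigmaCore (MulAut.conj g) M).symm

/-- Elements `k, s` of coprime orders commuting with each other are powers of their product. -/
theorem mem_zpowers_mul {k s : G} (hc : Commute k s) (hco : (orderOf k).Coprime (orderOf s)) :
    k ∈ Subgroup.zpowers (k * s) ∧ s ∈ Subgroup.zpowers (k * s) := by
  have key : ∀ {a b : G}, Commute a b → (orderOf a).Coprime (orderOf b) →
      b ∈ Subgroup.zpowers (a * b) := by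
    intro a b hab hco'
    have h1 : (a * b) ^ orderOf a = b ^ orderOf a := by
      rw [hab.mul_pow, pow_orderOf_eq_one, one_mul]
    obtain ⟨m, hm⟩ := exists_pow_eq_self_of_coprime (x := b) hco'
    exact Subgroup.mem_zpowers_iff.2 ⟨((orderOf a * m : ℕ) : ℤ), by
      rw [zpow_natCast, pow_mul, h1, hm]⟩
  exact ⟨by rw [hc.eq]; exact key hc.symm hco.symm, key hc hco⟩

/-- Every non-identity element has a power of prime order. -/
theorem exists_prime_pow [Finite G] {z : G} (hz : z ≠ 1) :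
    ∃ p : ℕ, p.Prime ∧ ∃ b ∈ Subgroup.zpowers z, orderOf b = p := by
  obtain ⟨p, hp, hd⟩ := Nat.exists_prime_and_dvd fun e => hz (orderOf_eq_one_iff.1 e)
  obtain ⟨h1, h2⟩ := BG14.ElementDichotomy.pow_prime_mem hd
  exact ⟨p, hp, _, h2, h1⟩

theorem ne_one_of_prime {b : G} {p : ℕ} (hp : p.Prime) (hb : orderOf b = p) : b ≠ 1 :=
  fun e => hp.ne_one (by rw [← hb, e, orderOf_one])

/-- A prime dividing the order of an element of `H` divides `|H|`. -/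
theorem dvd_card_of_mem [Finite G] {H : Subgroup G} {x : G} (hx : x ∈ H) {p : ℕ}
    (hd : p ∣ orderOf x) : p ∣ Nat.card H :=
  hd.trans (Subgroup.orderOf_dvd_natCard H hx)

theorem exists_orderOf [Finite G] {H : Subgroup G} {p : ℕ} (hp : p.Prime) (hd : p ∣ Nat.card H) :
    ∃ x ∈ H, orderOf x = p := by
  haveI := Fact.mk hp
  obtain ⟨x, hx⟩ := exists_prime_orderOf_dvd_card' p hd
  exact ⟨x, x.2, by rw [Subgroup.orderOf_coe, hx]⟩

variable [Finite G] {M N K : Subgroup G}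

theorem Hyp.typePFixed (h : Hyp G) : BG14.ElementDichotomy.TypePFixed G := fun M hM K hK hK1 =>
  ⟨(h.r1430 M hM K hK hK1).1, fun X hX hp => ((h.r1430 M hM K hK hK1).2.2 X hX hp).1,
    (h.r1431 M hM K hK hK1).1⟩

theorem Hyp.dichotomy (h : Hyp G) (hM : IsCoatom M) {x x' : G} (hx : x ∈ Cfsg.sigmaCore M)
    (hx1 : x ≠ 1) (hx'M : x' ∈ M) (hc : Commute x' x) (hx'1 : x' ≠ 1)
    (hσ : ∀ p : ℕ, p.Prime → p ∣ orderOf x' → p ∉ Cfsg.sigma M) :
    ((∀ p : ℕ, p.Prime → p ∣ orderOf x' → p ∈ Cfsg.kappa M) ∧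
        Subgroup.centralizer ({x} : Set G) ≤ M) ∨
      ((∀ p : ℕ, p.Prime → p ∣ orderOf x' → p ∈ Cfsg.tau2 M) ∧
        (∃ L : Subgroup G, IsCoatom L ∧ ∀ p : ℕ, p.Prime → p ∣ orderOf x' → p ∈ Cfsg.sigma L) ∧
        (Subgroup.centralizer ({x'} : Set G) ≤ M ∧ ∀ L : Subgroup G, IsCoatom L →
          Subgroup.centralizer ({x'} : Set G) ≤ L → L = M)) :=
  BG14.ElementDichotomy.dichotomy h.typePFixed h.min hM hx hx1
    ⟨hx'M, Subgroup.mem_centralizer_singleton_iff.2 hc.eq⟩ hx'1 hσ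

theorem Hyp.spec_of (h : Hyp G) (hM : IsCoatom M) {x : G} (hx : x ∈ Cfsg.sigmaCore M) (hx1 : x ≠ 1)
    (hxM : ¬ Subgroup.centralizer ({x} : Set G) ≤ M) (hN : IsCoatom N)
    (hxN : Subgroup.centralizer ({x} : Set G) ≤ N) : BG14.Support.Spec M N x :=
  BG14.Support.spec_of h.typePFixed h.min hM hx hx1 hxM hN hxN

theorem Hyp.exists_spec (h : Hyp G) (hM : IsCoatom M) {x : G} (hx : x ∈ Cfsg.sigmaCore M)
    (hx1 : x ≠ 1) (hxM : ¬ Subgroup.centralizer ({x} : Set G) ≤ M) :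
    ∃ N, BG14.Support.Spec M N x :=
  BG14.Support.exists_spec h.typePFixed h.min hM hx hx1 hxM

theorem Hyp.solvable (h : Hyp G) (hM : IsCoatom M) : Group.IsSolvable M :=
  solvable_of_ne_top h.min hM.1

/-- Maximal subgroups whose `σ`-sets meet are conjugate. -/
theorem Hyp.conj_of_sigma (h : Hyp G) (hM : IsCoatom M) (hN : IsCoatom N) {p : ℕ}
    (h1 : p ∈ Cfsg.sigma M) (h2 : p ∈ Cfsg.sigma N) :
    ∃ g : G, N = M.map (MulAut.conj g).toMonoidHom :=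
  (Cfsg.Agent.S1378.result h.min).2 M N hM hN ⟨p, h1, h2⟩

theorem map_conj_of_mem {g : G} (hg : g ∈ M) : M.map (MulAut.conj g).toMonoidHom = M :=
  BG14.TauTwoSigma.map_conj_self hg

theorem mem_of_map_eq (h : Hyp G) (hM : IsCoatom M) {g : G}
    (e : M.map (MulAut.conj g).toMonoidHom = M) : g ∈ M :=
  BG14.SupportRows.mem_of_map_eq h.min hM e

theorem mem_sigma_of_mem {x : G} (hx : x ∈ Cfsg.sigmaCore M) {p : ℕ} (hp : p.Prime)
    (hd : p ∣ orderOf x) : p ∈ Cfsg.sigma M :=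
  BG14.Support.mem_sigma hx hp hd

/-- An element of `M` whose order has all its primes in `σ(M)` lies in `M_σ`. -/
theorem Hyp.mem_sigmaCore (h : Hyp G) (hM : IsCoatom M) {x : G} (hx : x ∈ M)
    (hσ : ∀ p : ℕ, p.Prime → p ∣ orderOf x → p ∈ Cfsg.sigma M) : x ∈ Cfsg.sigmaCore M :=
  SigmaSubgroup.le_sigmaCore h.min hM (Subgroup.zpowers_le.2 hx)
    (fun p hp hd => hσ p hp (by rwa [Nat.card_zpowers] at hd)) (Subgroup.mem_zpowers x)

theorem Hyp.mem_sigmaCore_prime (h : Hyp G) (hM : IsCoatom M) {x : G} (hx : x ∈ M) {p : ℕ}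
    (hp : p.Prime) (hxp : orderOf x = p) (hσ : p ∈ Cfsg.sigma M) : x ∈ Cfsg.sigmaCore M :=
  h.mem_sigmaCore hM hx fun q hq hd => by
    rw [hxp] at hd
    exact (Nat.prime_dvd_prime_iff_eq hq hp).1 hd ▸ hσ

/-- A `π`-subgroup of `M` is conjugate in `M` into a given Hall `π`-subgroup. -/
theorem Hyp.exists_conj_le (h : Hyp G) (hM : IsCoatom M) {π : Set ℕ} {H Y : Subgroup G}
    (hH : Cfsg.IsPiHallOf π H M) (hYM : Y ≤ M)
    (hY : ∀ p : ℕ, p.Prime → p ∣ Nat.card Y → p ∈ π) :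
    ∃ m ∈ M, Y.map (MulAut.conj m).toMonoidHom ≤ H := by
  haveI := h.solvable hM
  obtain ⟨H', hH', hYH'⟩ := OddFitting.CentralizerHall.exists_hall_ge (M := M) hYM hY
  obtain ⟨m, hm, e⟩ := Hall.Coprime.exists_conj_of_isPiHallOf (h.solvable hM) hH' hH
  exact ⟨m, hm, (Subgroup.map_mono hYH').trans (le_of_eq e)⟩

theorem Hyp.exists_conj_mem (h : Hyp G) (hM : IsCoatom M) {π : Set ℕ} {H : Subgroup G}
    (hH : Cfsg.IsPiHallOf π H M) {x : G} (hx : x ∈ M)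
    (hxπ : ∀ p : ℕ, p.Prime → p ∣ orderOf x → p ∈ π) : ∃ m ∈ M, m * x * m⁻¹ ∈ H := by
  obtain ⟨m, hm, hle⟩ := h.exists_conj_le hM hH (Subgroup.zpowers_le.2 hx)
    (fun p hp hd => hxπ p hp (by rwa [Nat.card_zpowers] at hd))
  exact ⟨m, hm, hle ⟨x, Subgroup.mem_zpowers x, rfl⟩⟩

/-! ### The Hall `κ`-subgroup -/

theorem coprime_kappa_star (hK : Cfsg.IsPiHallOf (Cfsg.kappa M) K M) :
    (Nat.card K).Coprime (Nat.card (star M K)) :=
  (OddFitting.Decomp.coprime_kappa hK).coprime_dvd_right (Subgroup.card_dvd_of_le inf_le_left)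

theorem star_le_normalizer (M K : Subgroup G) : star M K ≤ Subgroup.normalizer (K : Set G) :=
  inf_le_right.trans (Subgroup.centralizer_le_normalizer _)

theorem star_le (M K : Subgroup G) : star M K ≤ M :=
  inf_le_left.trans (OddTau.Basic.sigmaCore_le M)

theorem commute_star {k s : G} (hk : k ∈ K) (hs : s ∈ star M K) : Commute k s :=
  Subgroup.mem_centralizer_iff.1 hs.2 k hk

theorem sup_star_le (hK : Cfsg.IsPiHallOf (Cfsg.kappa M) K M) : K ⊔ star M K ≤ M :=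
  sup_le hK.1 (star_le M K)

/-- Elements of `K K*`. -/
theorem exists_factor {z : G} (hz : z ∈ K ⊔ star M K) :
    ∃ k ∈ K, ∃ s ∈ star M K, z = k * s ∧ Commute k s := by
  rw [← SetLike.mem_coe,
    Subgroup.coe_mul_of_right_le_normalizer_left K _ (star_le_normalizer M K)] at hz
  obtain ⟨k, hk, s, hs, rfl⟩ := Set.mem_mul.1 hz
  exact ⟨k, hk, s, hs, rfl, commute_star hk hs⟩

theorem factor_zpowers (hK : Cfsg.IsPiHallOf (Cfsg.kappa M) K M) {k s : G} (hk : k ∈ K)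
    (hs : s ∈ star M K) :
    k ∈ Subgroup.zpowers (k * s) ∧ s ∈ Subgroup.zpowers (k * s) :=
  mem_zpowers_mul (commute_star hk hs) <|
    Nat.Coprime.coprime_dvd_left (Subgroup.orderOf_dvd_natCard K hk)
      ((coprime_kappa_star hK).coprime_dvd_right (Subgroup.orderOf_dvd_natCard (star M K) hs))

theorem card_sup_star (hK : Cfsg.IsPiHallOf (Cfsg.kappa M) K M) :
    Nat.card ↥(K ⊔ star M K) = Nat.card K * Nat.card (star M K) := by
  rw [sup_comm, Coprime.card_sup_of_disjoint (star_le_normalizer M K)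
    (disjoint_iff.2 (Basic.inf_eq_bot_of_coprime (coprime_kappa_star hK).symm)), mul_comm]

theorem ne_bot_iff_kappa (hK : Cfsg.IsPiHallOf (Cfsg.kappa M) K M) :
    K ≠ ⊥ ↔ (Cfsg.kappa M).Nonempty := by
  constructor
  · intro hne
    obtain ⟨p, hp, hd⟩ := Nat.exists_prime_and_dvd (mt Subgroup.card_eq_one.1 hne)
    exact ⟨p, hK.2.1 p hp hd⟩
  · rintro ⟨p, hκ⟩ rfl
    exact hK.2.2 p hκ.1 hκ (by rw [Subgroup.relIndex_bot_left]; exact hκ.2.1)

theorem Hyp.exists_hall_kappa (h : Hyp G) (hM : IsCoatom M) :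
    ∃ K : Subgroup G, Cfsg.IsPiHallOf (Cfsg.kappa M) K M := by
  haveI := h.solvable hM
  exact Hall.exists_isPiHallOf _ M

theorem Hyp.fixed (h : Hyp G) (hM : IsCoatom M) (hK : Cfsg.IsPiHallOf (Cfsg.kappa M) K M) {k : G}
    (hk : k ∈ K) (hk1 : k ≠ 1) {z : G} (hz : z ∈ Cfsg.sigmaCore M) (hc : Commute z k) :
    z ∈ star M K := by
  have hK1 : K ≠ ⊥ := fun e => hk1 (Subgroup.mem_bot.1 (e ▸ hk))
  exact ((h.r1430 M hM K hK hK1).1 k hk hk1).le ⟨hz, Subgroup.mem_centralizer_singleton_iff.2 hc.eq⟩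

theorem Hyp.star_ne_bot (h : Hyp G) (hM : IsCoatom M) (hK : Cfsg.IsPiHallOf (Cfsg.kappa M) K M)
    (hK1 : K ≠ ⊥) : star M K ≠ ⊥ := by
  obtain ⟨p, hp, hd⟩ := Nat.exists_prime_and_dvd (mt Subgroup.card_eq_one.1 hK1)
  have hκ := hK.2.1 p hp hd
  haveI := Fact.mk hp
  obtain ⟨-, x, hxP, hx1, y, hy, hy1, hxy⟩ := hκ.2.2.2 (Classical.arbitrary (Sylow p M))
  obtain ⟨m, hm, hmK⟩ := h.exists_conj_mem hM hK x.2 fun q hq hqd => by
    obtain ⟨n, hn⟩ := (IsPGroup.iff_orderOf.1 (Classical.arbitrary (Sylow p M)).2) ⟨x, hxP⟩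
    rw [Subgroup.orderOf_mk] at hn
    rw [Subgroup.orderOf_coe, hn] at hqd
    exact (Nat.prime_dvd_prime_iff_eq hq hp).1 (hq.dvd_of_dvd_pow hqd) ▸ hκ
  intro e
  have hx1' : (x : G) ≠ 1 := fun e' => hx1 (Subtype.ext e')
  have hy' : m * y * m⁻¹ ∈ star M K :=
    h.fixed hM hK hmK (fun e' => hx1' (conj_eq_one_iff.1 e'))
      ((Subgroup.mem_normalizer_iff.1 (OddTau.Basic.le_normalizer_sigmaCore M hm) y).1 hy)
      ((Commute.symm (show Commute (x : G) y from hxy)).map (MulAut.conj m).toMonoidHom)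
  rw [e, Subgroup.mem_bot, conj_eq_one_iff] at hy'
  exact hy1 hy'

/-- A prime of `κ(M)` is not in `σ(M)`. -/
theorem not_sigma_of_kappa {p : ℕ} (h : p ∈ Cfsg.kappa M) : p ∉ Cfsg.sigma M := h.2.2.1

/-- `M` is of type `P₁`. -/
def IsP1 (M : Subgroup G) : Prop :=
  ∀ q : ℕ, q.Prime → q ∣ Nat.card M → q ∉ Cfsg.sigma M → q ∈ Cfsg.kappa M

theorem Hyp.card_of_isP1 (h : Hyp G) (hM : IsCoatom M) (hK : Cfsg.IsPiHallOf (Cfsg.kappa M) K M)
    (h1 : IsP1 M) : Nat.card M = Nat.card K * Nat.card (Cfsg.sigmaCore M) := by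
  have hE : Cfsg.IsPiHallOf {q | q ∉ Cfsg.sigma M} K M := by
    refine ⟨hK.1, fun q hq hd => (hK.2.1 q hq hd).2.2.1, fun q hq hσ hd => hK.2.2 q hq ?_ hd⟩
    refine h1 q hq (hd.trans ?_) hσ
    exact Dvd.intro_left _ (OddFitting.Decomp.card_mul_relIndex hK.1)
  exact (Basic.isComplIn_card (OddFitting.CentralizerHall.compl_of_hall h.min hM hE)).symm

/-- `U` completes `K` to a standard factorisation. -/
theorem Hyp.decomposition (h : Hyp G) (hM : IsCoatom M) (hK : Cfsg.IsPiHallOf (Cfsg.kappa M) K M)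
    (hc : IsCyclic K) {U : Subgroup G}
    (hU : Cfsg.IsPiHallOf {q | q.Prime ∧ q ∉ Cfsg.kappa M ∧ q ∉ Cfsg.sigma M} U M)
    (hn : K ≤ Subgroup.normalizer (U : Set G)) : Cfsg.IsSigmaDecomposition M K U := by
  have hσ := SigmaHall.sigmaCore_isPiHallOf h.min hM
  have hKS : Nat.card ↥(K ⊔ Cfsg.sigmaCore M) = Nat.card K * Nat.card (Cfsg.sigmaCore M) :=
    Coprime.card_sup_of_disjoint (hK.1.trans (OddTau.Basic.le_normalizer_sigmaCore M))
      (disjoint_iff.2 (OddFitting.Decomp.K_inf_sigma hK))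
  have hcop : (Nat.card U).Coprime (Nat.card ↥(K ⊔ Cfsg.sigmaCore M)) := by
    refine Nat.coprime_of_dvd fun q hq h1 h2 => ?_
    rw [hKS] at h2
    rcases hq.dvd_mul.1 h2 with h2 | h2
    · exact (hU.2.1 q hq h1).2.1 (hK.2.1 q hq h2)
    · exact (hU.2.1 q hq h1).2.2 (hσ.2.1 q hq h2)
  have hle : K ⊔ Cfsg.sigmaCore M ≤ M := sup_le hK.1 hσ.1
  refine ⟨hc, hK, Basic.isComplIn_of_card hU.1 hle (Basic.inf_eq_bot_of_coprime hcop) ?_, hn⟩
  refine Nat.dvd_antisymm ?_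
    (hcop.mul_dvd_of_dvd_of_dvd (Subgroup.card_dvd_of_le hU.1) (Subgroup.card_dvd_of_le hle))
  have e : ∀ {H : Subgroup G}, H ≤ M → Nat.card H * H.relIndex M = Nat.card M :=
    OddFitting.Decomp.card_mul_relIndex
  rw [← e hU.1]
  refine Nat.mul_dvd_mul_left _ ((Nat.coprime_of_dvd fun q hq h1 h2 => ?_ :
    (U.relIndex M).Coprime ((K ⊔ Cfsg.sigmaCore M).relIndex M)).dvd_of_dvd_mul_right ?_)
  · by_cases hqσ : q ∈ Cfsg.sigma M
    · exact hσ.2.2 q hq hqσ (h2.trans (Dvd.intro_left _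
        (Subgroup.relIndex_mul_relIndex _ _ _ le_sup_right hle)))
    · by_cases hqκ : q ∈ Cfsg.kappa M
      · exact hK.2.2 q hq hqκ (h2.trans (Dvd.intro_left _
          (Subgroup.relIndex_mul_relIndex _ _ _ le_sup_left hle)))
      · exact hU.2.2 q hq ⟨hq, hqκ, hqσ⟩ h1
  · rw [e hle, ← e hU.1]
    exact dvd_mul_left _ _

end Cfsg.Agent.Lib.OddOrder.Partner
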